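import Cfsg.Agent.H25.M23.Local
import Cfsg.Agent.TT95.NormSeven
import Cfsg.Agent.TT95.NormFiveConj

/-!
Type M(22): the constants for subgroups of orders five and seven.
-/

set_option autoImplicit false
set_option linter.unusedSectionVars false

namespace Cfsg.Agent.H25.M23

open Cfsg.Agent.TT95

variable {G : Type*} [Group G] [Finite G] {D : Set G} {d : G} (hG : Cfg23 D d)

include hG

theorem local7 : Local22 (locSet D d) 7 3 42 252 := by
  haveI := gen_loc hG
  haveI := loc_finite hG.lay.tt d
  refine ⟨fun Y hY => ?_, fun Y hY => ?_, fun Y hY => ?_, fun Y Z hY hZ => seven_conj hG.loc hG.core Y Z hY hZ⟩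
  all_goals obtain ⟨a, ha, haY⟩ := seven_has_fix hG.loc hG.core hY
  · exact seven_fix hG.loc hG.core hY ha haY
  · exact (seven_norm hG.loc hG.core hY ha haY).2
  · exact (seven_norm hG.loc hG.core hY ha haY).1

theorem local5 : Local22 (locSet D d) 5 10 600 2400 := by
  haveI := gen_loc hG
  haveI := loc_finite hG.lay.tt d
  refine ⟨fun Y hY => ?_, fun Y hY => ?_, fun Y hY => ?_, fun Y Z hY hZ => five_conj hG.loc hG.core Y Z hY hZ⟩
  all_goals obtain ⟨a, ha, haY⟩ := five_has_fix hG.loc hG.core hY
  · exact five_fix hG.loc hG.core hY ha haY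
  · exact (five_norm hG.loc hG.core hY ha haY).2
  · exact (five_norm hG.loc hG.core hY ha haY).1

end Cfsg.Agent.H25.M23
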