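import Cfsg.Agent.H25.M23.Fixed
import Mathlib.GroupTheory.FixedPointFree

/-!
Type M(23): subgroups of order thirteen.
-/

set_option autoImplicit false
set_option linter.unusedSectionVars false

namespace Cfsg.Agent.H25.M23

open Cfsg.Agent.TT95

variable {G : Type*} [Group G] [Finite G] {D : Set G} {d : G} (hG : Cfg23 D d) [Gen D]
  (hL : Local22 (locSet D d) 13 0 13 78)

/-- A member centralising a product of two noncommuting members centralises both. -/
theorem commute_of_line (hD : TTSet D) {a b y : G} (ha : a ∈ D) (hb : b ∈ D) (hy : y ∈ D) (hab : ¬ Commute a b)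
    (h : Commute y (a * b)) : Commute y a ∧ Commute y b := by
  have key : Commute y a := by
    by_contra hya
    -- `y` would be conjugate to `a` in the normaliser of the line
    have hy2 := sq hD hy
    have ha2 := sq hD ha
    have e1 : y * (a * b) * y = a * b := by rw [h.eq, mul_assoc, hy2, mul_one]
    have e2 : y * (b * a) * y = b * a := by
      have h' : Commute y (a * b)⁻¹ := h.inv_right
      rw [mul_inv_rev, inv_eq hD ha, inv_eq hD hb] at h'
      rw [h'.eq, mul_assoc, hy2, mul_one]
    have hg := exists_conj_of_not_commute hD ha hy (fun h' => hya h'.symm)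
    rw [mul_inv_rev, inv_eq hD ha, inv_eq hD hy] at hg
    have e3 : y * (a * b) * y = b * a := by
      calc y * (a * b) * y = (a * y * a * (y * a)) * (a * b) * (a * y * a * (y * a)) := by rw [hg]
        _ = a * y * (a * (y * (a * (a * b) * a) * y) * a) * y * a := by simp only [mul_assoc]
        _ = a * y * (a * (y * (b * a) * y) * a) * y * a := by
          rw [show a * (a * b) * a = (a * a) * (b * a) by simp only [mul_assoc], ha2, one_mul]
        _ = a * y * (a * b) * y * a := by
          rw [e2, show a * (b * a) * a = a * b * (a * a) by simp only [mul_assoc], ha2, mul_one]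
        _ = a * (y * (a * b) * y) * a := by simp only [mul_assoc]
        _ = a * (a * b) * a := by rw [e1]
        _ = b * a := by rw [← mul_assoc a a b, ha2, one_mul]
    exact hab (show a * b = b * a from e1.symm.trans e3)
  refine ⟨key, ?_⟩
  have hk := key.mul_right h
  rwa [← mul_assoc, sq hD ha, one_mul] at hk

include hG hL

theorem thirteen (X : Subgroup G) (hX : Nat.card X = 13) :
    Nat.card (Subgroup.centralizer (X : Set G)) = Nat.factorial 3 * 13 ∧
    Nat.card (Subgroup.normalizer (X : Set G)) = Nat.factorial 3 * 78 ∧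
    ∃ F : Subgroup G, Nat.card ↥F = 78 ∧ X ≤ F ∧ F ⊓ Subgroup.centralizer (X : Set G) = X ∧
      F ⊓ Subgroup.closure (fx D X) = ⊥ ∧
      (∀ x ∈ F, ∀ y ∈ Subgroup.closure (fx D X), x * y = y * x) ∧
      F ⊔ Subgroup.closure (fx D X) = Subgroup.normalizer (X : Set G) ∧
      Nonempty (↥(Subgroup.closure (fx D X)) ≃* Equiv.Perm (Fin 3)) := by
  classical
  haveI : Fact (Nat.Prime 13) := ⟨by norm_num⟩
  haveI := Fact.mk Nat.prime_two
  have hD := hG.lay.tt
  have hA : ∀ v ∈ fx D X, AtFixed D 13 0 13 78 X v := fun v hv => atFixed hG hL (by norm_num) hX hv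
  have hfar : ∀ v ∈ fx D X, ∀ z ∈ fx D X, z ≠ v → ¬ Commute v z := fun v hv z hz hne hc => by
    have h0 : nb D v ∩ fx D X = ∅ := (Set.ncard_eq_zero (Set.toFinite _)).mp (hA v hv).fixed
    exact Set.notMem_empty z (h0 ▸ ⟨⟨hz.1, hne, hc⟩, hz⟩)
  have hmod := fx_modEq hD hX
  rw [hG.lay.card_D] at hmod
  obtain ⟨a, ha⟩ := exists_fx hG hX (by norm_num)
  obtain ⟨b, hb, hba⟩ : ∃ b ∈ fx D X, b ≠ a := Set.exists_ne_of_one_lt_ncard
    (by unfold Nat.ModEq at hmod; omega) a
  have hab : ¬ Commute a b := hfar a ha b hb hba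
  set C := Subgroup.centralizer (X : Set G) with hC
  -- `C` is transitive on the fixed transpositions
  have htrC : ∀ x ∈ fx D X, ∃ g ∈ C, g * a * g⁻¹ = x := by
    intro x hx
    by_cases h : x = a
    · exact ⟨1, one_mem _, by rw [h]; group⟩
    · exact ⟨a * x, mul_mem ha.2 hx.2, exists_conj_of_not_commute hD ha.1 hx.1 (hfar a ha x hx h)⟩
  have hCc : Nat.card C = (fx D X).ncard * 26 := by
    rw [card_orbit C a (fx D X)
      (fun g hg => fx_conj_mem hD hX (Subgroup.centralizer_le_normalizer _ hg) ha) htrC, (hA a ha).cent]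
  have hodd : Odd (fx D X).ncard := by
    have hev := even_of_conj hD ha.1 (S := fx D X \ {a})
      (fun y hy => ⟨(fx_closed hD hX).2 a ha y hy.1, fun h => hy.2 (by
        have h' : a * y * a = a := h
        calc y = a * (a * y * a) * a := by
              rw [show a * (a * y * a) * a = (a * a) * y * (a * a) by simp only [mul_assoc], sq hD ha.1,
                one_mul, mul_one]
          _ = a := by rw [h', sq hD ha.1, one_mul])⟩)
      (fun y hy => hfar a ha y hy.1 hy.2)
    rw [← Set.ncard_diff_singleton_add_one ha]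
    exact hev.add_one
  -- the complement of the fixed involution
  have hz2 : Nat.card (Subgroup.zpowers (⟨a, ha.2⟩ : C)) = 2 := by
    rw [Nat.card_zpowers, Subgroup.orderOf_mk, hD.1.1 a ha.1]
  let P : Sylow 2 C := Sylow.ofCard (Subgroup.zpowers (⟨a, ha.2⟩ : C)) (by
    rw [hz2, hCc]
    have h0 : (fx D X).ncard ≠ 0 := fun h => by rw [h] at hodd; simp at hodd
    rw [show (fx D X).ncard * 26 = 2 ^ 1 * ((fx D X).ncard * 13) by ring,
      Nat.factorization_mul (by norm_num) (by omega), Finsupp.add_apply,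
      Nat.Prime.factorization_pow Nat.prime_two, Finsupp.single_eq_same,
      Nat.factorization_eq_zero_of_not_dvd]
    · norm_num
    · exact fun h => by obtain ⟨r, hr⟩ := hodd; omega)
  have hPN : Subgroup.normalizer ((P : Subgroup C) : Set C) ≤ Subgroup.centralizer ((P : Subgroup C) : Set C) := by
    intro g hg
    show g ∈ Subgroup.centralizer ((Subgroup.zpowers (⟨a, ha.2⟩ : C) : Subgroup C) : Set C)
    refine Subgroup.mem_centralizer_iff.mpr fun z hz => ?_
    have hgz : g * (⟨a, ha.2⟩ : C) * g⁻¹ ∈ Subgroup.zpowers (⟨a, ha.2⟩ : C) :=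
      (Subgroup.mem_normalizer_iff.mp hg _).mp (Subgroup.mem_zpowers _)
    have hne1 : g * (⟨a, ha.2⟩ : C) * g⁻¹ ≠ 1 := fun h => ne_one hD ha.1
      (congrArg Subtype.val (conj_eq_one_iff.mp h))
    have hu := ((Nat.card_eq_two_iff' (1 : Subgroup.zpowers (⟨a, ha.2⟩ : C))).mp hz2).unique
      (y₁ := ⟨_, hgz⟩) (y₂ := ⟨_, Subgroup.mem_zpowers _⟩)
      (fun h => hne1 (congrArg Subtype.val h))
      (fun h => ne_one hD ha.1 (congrArg (fun v : Subgroup.zpowers (⟨a, ha.2⟩ : C) => ((v : C) : G)) h))
    have hga : Commute g (⟨a, ha.2⟩ : C) := mul_inv_eq_iff_eq_mul.mp (congrArg Subtype.val hu)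
    obtain ⟨i, rfl⟩ := Subgroup.mem_zpowers_iff.mp hz
    exact ((hga.zpow_right i).eq).symm
  set R := (MonoidHom.transferSylow P hPN).ker with hR
  have hRc : Subgroup.IsComplement' R (P : Subgroup C) := MonoidHom.ker_transferSylow_isComplement' P hPN
  have hRidx : R.index = 2 := by rw [hRc.symm.index_eq_card]; exact hz2
  have hRodd : Odd (Nat.card R) := by
    have h := R.index_mul_card
    rw [hRidx, hCc] at h
    rw [show Nat.card R = (fx D X).ncard * 13 by omega]
    exact hodd.mul (by decide)
  have hnotR : ∀ v (hv : v ∈ fx D X), (⟨v, hv.2⟩ : C) ∉ R := by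
    intro v hv hm
    have h := Subgroup.orderOf_dvd_natCard R hm
    rw [Subgroup.orderOf_mk, hD.1.1 v hv.1] at h
    obtain ⟨r, hr⟩ := hRodd
    omega
  have hprodR : ∀ v (hv : v ∈ fx D X) z (hz : z ∈ fx D X), (⟨v * z, mul_mem hv.2 hz.2⟩ : C) ∈ R := by
    intro v hv z hz
    rw [show (⟨v * z, mul_mem hv.2 hz.2⟩ : C) = ⟨v, hv.2⟩ * ⟨z, hz.2⟩ from rfl,
      Subgroup.mul_mem_iff_of_index_two hRidx]
    exact iff_of_false (hnotR v hv) (hnotR z hz)
  have hXcen : ∀ x ∈ X, ∀ g : C, x * (g : G) = g * x := fun x hx g =>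
    Subgroup.mem_centralizer_iff.mp g.2 x hx
  have hXR : ∀ x (hx : x ∈ X) (hxC : x ∈ C), (⟨x, hxC⟩ : C) ∈ R := by
    intro x hx hxC
    have hsq := Subgroup.sq_mem_of_index_two hRidx (⟨x, hxC⟩ : C)
    have h13 : (⟨x, hxC⟩ : C) ^ 13 = 1 :=
      Subtype.ext (by simpa using (hX ▸ congrArg Subtype.val (pow_card_eq_one' (G := X) (x := ⟨x, hx⟩))))
    have := pow_mem hsq 7
    rwa [← pow_mul, show 2 * 7 = 13 + 1 by norm_num, pow_succ, h13, one_mul] at this
  haveI : ((X.subgroupOf C).subgroupOf R).Normal := ⟨fun x hx g => by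
    show ((g : C) : G) * ((x : C) : G) * ((g : C) : G)⁻¹ ∈ X
    rw [show ((g : C) : G) * ((x : C) : G) * ((g : C) : G)⁻¹ = ((x : C) : G) from
      mul_inv_eq_iff_eq_mul.mpr (hXcen _ hx (g : C)).symm]
    exact hx⟩
  haveI hRn : R.Normal := MonoidHom.normal_ker _
  -- conjugation by `a` inverts `R` modulo `X`
  let φR : R →* R := MonoidHom.mk' (fun r => ⟨(⟨a, ha.2⟩ : C) * r * (⟨a, ha.2⟩ : C)⁻¹, hRn.conj_mem r r.2 _⟩)
    (fun r r' => Subtype.ext (by simp [mul_assoc]))
  let φ := QuotientGroup.map ((X.subgroupOf C).subgroupOf R) ((X.subgroupOf C).subgroupOf R) φR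
    (fun x hx => by
      show a * ((x : C) : G) * a⁻¹ ∈ X
      rw [show a * ((x : C) : G) * a⁻¹ = ((x : C) : G) from
        mul_inv_eq_iff_eq_mul.mpr (hXcen _ hx ⟨a, ha.2⟩).symm]
      exact hx)
  have hinv : Function.Involutive φ := by
    intro q
    induction q using QuotientGroup.induction_on with
    | H r =>
      refine congrArg QuotientGroup.mk (Subtype.ext (Subtype.ext ?_))
      show a * (a * ((r : C) : G) * a⁻¹) * a⁻¹ = ((r : C) : G)
      rw [inv_eq hD ha.1, show a * (a * ((r : C) : G) * a) * a = (a * a) * ((r : C) : G) * (a * a) by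
        simp only [mul_assoc], sq hD ha.1, one_mul, mul_one]
  have hfpf : MonoidHom.FixedPointFree φ := by
    intro q
    induction q using QuotientGroup.induction_on with
    | H r =>
      intro h
      have h0 : (φR r)⁻¹ * r ∈ (X.subgroupOf C).subgroupOf R := QuotientGroup.eq.mp h
      have h' : (a * ((r : C) : G) * a⁻¹)⁻¹ * ((r : C) : G) ∈ X := h0
      rw [inv_eq hD ha.1] at h'
      set x := (a * ((r : C) : G) * a)⁻¹ * ((r : C) : G) with hx
      -- `r` moves `a` to `a` times an element of `X`, which must be trivial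
      have hxa : Commute x a := hXcen _ h' ⟨a, ha.2⟩
      have h2 : x * x = 1 := by
        have e1 : a * x * a = ((r : C) : G)⁻¹ * (a * ((r : C) : G) * a) := by
          rw [hx, mul_inv_rev, mul_inv_rev, inv_eq hD ha.1]
          simp only [mul_assoc]
          rw [← mul_assoc a a, sq hD ha.1, one_mul]
        rw [hxa.symm.eq, mul_assoc, sq hD ha.1, mul_one] at e1
        calc x * x = ((a * ((r : C) : G) * a)⁻¹ * ((r : C) : G)) *
              (((r : C) : G)⁻¹ * (a * ((r : C) : G) * a)) := by rw [← e1, ← hx]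
          _ = 1 := by group
      have hx1 : x = 1 := by
        have h13 : x ^ 13 = 1 := hX ▸ congrArg Subtype.val (pow_card_eq_one' (G := X) (x := ⟨x, h'⟩))
        rwa [show (13 : ℕ) = 2 * 6 + 1 by norm_num, pow_succ, pow_mul, pow_two, h2, one_pow, one_mul] at h13
      have hcomm : a * ((r : C) : G) * a = ((r : C) : G) := inv_mul_eq_one.mp hx1
      have hm : ((r : C) : G) ∈ C ⊓ Subgroup.centralizer ({a} : Set G) := by
        refine ⟨(r : C).2, Subgroup.mem_centralizer_singleton_iff.mpr ?_⟩
        conv_lhs => rw [← hcomm]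
        rw [mul_assoc, sq hD ha.1, mul_one]
      -- elements of `R` centralising `a` lie in `X`
      refine (QuotientGroup.eq_one_iff r).mpr ?_
      show ((r : C) : G) ∈ X
      have hpow : ((r : C) : G) ^ 26 = 1 := by
        have := congrArg Subtype.val (pow_card_eq_one' (G := ↥(C ⊓ Subgroup.centralizer ({a} : Set G)))
          (x := ⟨_, hm⟩))
        rwa [(hA a ha).cent, SubgroupClass.coe_pow] at this
      have hd1 : orderOf ((r : C) : G) ∣ 26 := orderOf_dvd_of_pow_eq_one hpow
      have hd2 : Odd (orderOf ((r : C) : G)) := by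
        rw [Subgroup.orderOf_coe, Subgroup.orderOf_coe]
        exact hRodd.of_dvd_nat (orderOf_dvd_natCard r)
      have hd3 : orderOf ((r : C) : G) ∣ 13 :=
        (Nat.coprime_two_right.mpr hd2).dvd_of_dvd_mul_left (hd1.trans (dvd_of_eq (by norm_num)))
      -- `X` is the only subgroup of order thirteen there
      by_contra hrX
      have hne : orderOf ((r : C) : G) = 13 := ((Nat.dvd_prime (by norm_num : Nat.Prime 13)).mp hd3).resolve_left
        (fun h1 => hrX (by rw [orderOf_eq_one_iff.mp h1]; exact one_mem X))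
      set Z := Subgroup.zpowers ((r : C) : G) with hZ
      have hXle : X ≤ C ⊓ Subgroup.centralizer ({a} : Set G) := le_inf (by
        haveI := isCyclic_of_prime_card hX
        exact fun x hx => Subgroup.mem_centralizer_iff.mpr fun y hy => congrArg Subtype.val
          ((IsCyclic.commutative (α := X)).is_comm.comm ⟨y, hy⟩ ⟨x, hx⟩)) (le_centralizer_of_fx ha)
      have hZle : Z ≤ C ⊓ Subgroup.centralizer ({a} : Set G) := Subgroup.zpowers_le.mpr hm
      have hdis : X ⊓ Z = ⊥ := by
        apply Subgroup.eq_bot_of_card_eq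
        rcases (Nat.dvd_prime (by norm_num : Nat.Prime 13)).mp (hX ▸ Subgroup.card_dvd_of_le (inf_le_left : X ⊓ Z ≤ X))
          with h | h
        · exact h
        · have e := Subgroup.eq_of_le_of_card_ge (inf_le_right : X ⊓ Z ≤ Z)
            (by rw [h, Nat.card_zpowers, hne])
          exact absurd ((e.symm.le (Subgroup.mem_zpowers _)).1) hrX
      have hinj : Function.Injective (fun q : X × Z =>
          (⟨q.1 * q.2, mul_mem (hXle q.1.2) (hZle q.2.2)⟩ : ↥(C ⊓ Subgroup.centralizer ({a} : Set G)))) := by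
        rintro ⟨u, v⟩ ⟨u', v'⟩ h
        have h' : (u : G) * v = u' * v' := congrArg Subtype.val h
        have h1 : (u' : G)⁻¹ * u = v' * (v : G)⁻¹ := by
          rw [inv_mul_eq_iff_eq_mul, ← mul_assoc, ← h', mul_inv_cancel_right]
        have h2 : (u' : G)⁻¹ * u = 1 := by
          rw [← Subgroup.mem_bot, ← hdis]
          exact ⟨mul_mem (X.inv_mem u'.2) u.2, h1 ▸ mul_mem v'.2 (Z.inv_mem v.2)⟩
        have e1 : u = u' := Subtype.ext (inv_mul_eq_one.mp h2).symm
        subst e1
        exact Prod.ext rfl (Subtype.ext (mul_left_cancel h'))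
      have := Nat.card_le_card_of_injective _ hinj
      rw [Nat.card_prod, hX, Nat.card_zpowers, hne, (hA a ha).cent] at this
      norm_num at this
  -- any fixed transposition inverts the line through `a` and `b`
  have hF3 : fx D X = {a, b, a * b * a} := by
    refine Set.Subset.antisymm (fun c hc => ?_) ?_
    · by_cases hca : c = a
      · exact Or.inl hca
      by_cases hcb : c = b
      · exact Or.inr (Or.inl hcb)
      have hac : ¬ Commute a c := hfar a ha c hc hca
      have hcomm := MonoidHom.FixedPointFree.commute_all_of_involutive hfpf hinv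
        (QuotientGroup.mk ⟨_, hprodR a ha c hc⟩) (QuotientGroup.mk ⟨_, hprodR a ha b hb⟩)
      have hx0 : ((⟨_, hprodR a ha c hc⟩ : R) * ⟨_, hprodR a ha b hb⟩)⁻¹ *
          (⟨_, hprodR a ha b hb⟩ * ⟨_, hprodR a ha c hc⟩) ∈ (X.subgroupOf C).subgroupOf R :=
        QuotientGroup.eq.mp hcomm.eq
      have hx : ((a * c) * (a * b))⁻¹ * ((a * b) * (a * c)) ∈ X := hx0
      set x := ((a * c) * (a * b))⁻¹ * ((a * b) * (a * c)) with hxdef
      have hcen : Commute x (a * b) := hXcen x hx ⟨a * b, mul_mem ha.2 hb.2⟩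
      have hconj : (a * c)⁻¹ * (a * b) * (a * c) = (a * b) * x := by
        rw [hxdef]; group
      have h3 : (a * b) ^ 3 = 1 := by
        calc (a * b) ^ 3 = (a * b * a) * (b * a * b) := by
              rw [pow_succ, pow_succ, pow_one]; simp only [mul_assoc]
          _ = (a * b * a) * (a * b * a) := by rw [braid hD ha.1 hb.1 hab]
          _ = a * b * (a * a) * b * a := by simp only [mul_assoc]
          _ = 1 := by rw [sq hD ha.1, mul_one, mul_assoc a, sq hD hb.1, mul_one, sq hD ha.1]
      have hx1 : x = 1 := by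
        have hx3 : x ^ 3 = 1 := by
          have : ((a * c)⁻¹ * (a * b) * (a * c)) ^ 3 = ((a * b) * x) ^ 3 := by rw [hconj]
          rw [show (a * c)⁻¹ * (a * b) * (a * c) = (a * c)⁻¹ * (a * b) * (a * c)⁻¹⁻¹ by rw [inv_inv], conj_pow,
            hcen.symm.mul_pow, h3] at this
          simpa using this.symm
        have h13 : x ^ 13 = 1 := hX ▸ congrArg Subtype.val (pow_card_eq_one' (G := X) (x := ⟨x, hx⟩))
        rwa [show (13 : ℕ) = 3 * 4 + 1 by norm_num, pow_succ, pow_mul, hx3, one_pow, one_mul] at h13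
      rw [hx1, mul_one] at hconj
      have hU : Commute (a * c) (a * b) := by
        have h' := congrArg ((a * c) * ·) hconj
        simp only [← mul_assoc, mul_inv_cancel, one_mul] at h'
        show a * c * (a * b) = a * b * (a * c)
        simpa only [mul_assoc] using h'.symm
      have hcac : c * a * c = a * c * a := (braid hD ha.1 hc.1 hac).symm
      have hyfar : a * c * a ∈ far D a := ⟨conj_mem' hD hc.1 ha.1, fun hh => hac (by
        have h' := (Commute.conj_iff a).2 hh
        rw [inv_eq hD ha.1, show a * (a * c * a) * a = (a * a) * c * (a * a) by simp only [mul_assoc],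
          show a * a * a = a by rw [sq hD ha.1, one_mul], sq hD ha.1, one_mul, mul_one] at h'
        exact h')⟩
      have hall : ∀ z ∈ common D a b, Commute z (a * c * a) := by
        intro z hz
        have hzab : Commute z (a * b) := hz.1.2.2.symm.mul_right hz.2.2.2.symm
        have h' : Commute ((a * c) * z * (a * c)⁻¹) (a * b) := by
          have := (Commute.conj_iff (a * c)).2 hzab
          rwa [hU.eq, mul_inv_cancel_right] at this
        have h'' := (commute_of_line hD ha.1 hb.1 (conj_mem hD _ hz.1.1) hab h').1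
        have h4 := (Commute.conj_iff (a * c)⁻¹).2 h''
        rw [inv_inv, show (a * c)⁻¹ * ((a * c) * z * (a * c)⁻¹) * (a * c) = z by group, mul_inv_rev,
          inv_eq hD ha.1, inv_eq hD hc.1,
          show c * a * a * (a * c) = c * (a * a) * (a * c) by simp only [mul_assoc], sq hD ha.1, mul_one,
          ← mul_assoc, hcac] at h4
        exact h4
      rcases hG.lay.dperp a ha.1 b ⟨hb.1, hab⟩ (a * c * a) hyfar hall with h | h
      · refine Or.inr (Or.inr ?_)
        show c = a * b * a
        rw [← h, show a * (a * c * a) * a = (a * a) * c * (a * a) by simp only [mul_assoc], sq hD ha.1,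
          one_mul, mul_one]
      · exact absurd (mul_left_cancel (mul_right_cancel h)) hcb
    · rintro x (rfl | rfl | rfl)
      exacts [ha, hb, (fx_closed hD hX).2 a ha b hb]
  let t : Fin 2 → G := ![a, b]
  have ht : ∀ i, t i ∈ fx D X := by
    intro i; fin_cases i
    exacts [ha, hb]
  have hadj : ∀ i j : Fin 2, (i : ℕ) + 1 = j → ¬ Commute (t i) (t j) := by
    intro i j h
    fin_cases i <;> fin_cases j <;> simp at h <;> simp [t, hab]
  have hcomm : ∀ i j : Fin 2, (i : ℕ) + 1 < j → Commute (t i) (t j) := by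
    intro i j h
    fin_cases i <;> fin_cases j <;> simp at h
  have hmem : ∀ i, t i ∈ Subgroup.closure (Set.range t) := fun i => Subgroup.subset_closure ⟨i, rfl⟩
  have hsub : fx D X ⊆ orb (Subgroup.closure (Set.range t)) a := by
    rw [hF3]
    have hbO : b ∈ orb (Subgroup.closure (Set.range t)) a :=
      orb_step hD (self_mem_orb _ a) ha.1 hb.1 hab (hmem 0) (hmem 1)
    rintro x (rfl | rfl | rfl)
    · exact self_mem_orb _ _
    · exact hbO
    · exact third_mem_orb hD hbO ha.1 (hmem 0)
  have hcard := ncard_fx_chain hD (n := 2) (Or.inl rfl) t ht hadj hcomm hsub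
  norm_num [Nat.factorial] at hcard
  exact factor hD hX (n := 2) (Or.inl rfl) (by norm_num) t ht hadj hcomm ha
    (fun y hy => orb_subset (hmem 0) (hsub hy)) hsub (hA a ha)
    (by norm_num [Nat.factorial]; omega) (by norm_num [Nat.factorial]; omega)

end Cfsg.Agent.H25.M23
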