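import Cfsg.Agent.H25.M23.Fixed

/-!
Type M(23): subgroups of order seven.
-/

set_option autoImplicit false
set_option linter.unusedSectionVars false

namespace Cfsg.Agent.H25.M23

open Cfsg.Agent.TT95

variable {G : Type*} [Group G] [Finite G] {D : Set G} {d : G} (hG : Cfg23 D d) [Gen D]
  (hL : Local22 (locSet D d) 7 3 42 252)

include hG hL

theorem pet_seven {X : Subgroup G} (hX : Nat.card X = 7) : Pet D (fx D X) := by
  haveI : Fact (Nat.Prime 7) := ⟨by norm_num⟩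
  have hD := hG.lay.tt
  have hdeg : ∀ x ∈ fx D X, (nb D x ∩ fx D X).ncard = 3 := fun x hx =>
    (atFixed hG hL (by norm_num) hX hx).fixed
  refine ⟨fx_closed hD hX, hdeg, fun x hx y hy => ?_, fun x hx y hy hxy => ?_⟩
  · have h := common_fx_modEq hD hX hx hy.2
    rw [hG.lay.card_edge x hx.1 y hy.1] at h
    have hle : (common D x y ∩ fx D X).ncard ≤ 3 :=
      hdeg x hx ▸ Set.ncard_le_ncard (fun z hz => ⟨hz.1.1, hz.2⟩)
    unfold Nat.ModEq at h
    refine (Set.ncard_eq_zero).mp ?_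
    omega
  · have h := common_fx_modEq hD hX hx hy
    rw [hG.lay.card_far x hx.1 y hxy] at h
    have hle : (common D x y ∩ fx D X).ncard ≤ 3 :=
      hdeg x hx ▸ Set.ncard_le_ncard (fun z hz => ⟨hz.1.1, hz.2⟩)
    unfold Nat.ModEq at h
    omega

theorem seven (X : Subgroup G) (hX : Nat.card X = 7) :
    Nat.card (Subgroup.centralizer (X : Set G)) = Nat.factorial 5 * 7 ∧
    Nat.card (Subgroup.normalizer (X : Set G)) = Nat.factorial 5 * 42 ∧
    ∃ F : Subgroup G, Nat.card ↥F = 42 ∧ X ≤ F ∧ F ⊓ Subgroup.centralizer (X : Set G) = X ∧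
      F ⊓ Subgroup.closure (fx D X) = ⊥ ∧
      (∀ x ∈ F, ∀ y ∈ Subgroup.closure (fx D X), x * y = y * x) ∧
      F ⊔ Subgroup.closure (fx D X) = Subgroup.normalizer (X : Set G) ∧
      Nonempty (↥(Subgroup.closure (fx D X)) ≃* Equiv.Perm (Fin 5)) := by
  haveI : Fact (Nat.Prime 7) := ⟨by norm_num⟩
  have hD := hG.lay.tt
  have hP := pet_seven hG hL hX
  obtain ⟨a, ha⟩ := exists_fx hG hX (by norm_num)
  -- a second neighbour of a neighbour is far from `a`
  obtain ⟨x, hx⟩ : (nb D a ∩ fx D X).Nonempty :=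
    Set.nonempty_of_ncard_ne_zero (by rw [hP.deg a ha]; norm_num)
  obtain ⟨b, hb, hba⟩ : ∃ b ∈ nb D x ∩ fx D X, b ≠ a :=
    Set.exists_ne_of_one_lt_ncard (by rw [hP.deg x hx.2]; norm_num) a
  have hab : b ∈ far D a := hP.nbrs_far hx.2 ⟨mem_nb_comm ha.1 hx.1, ha⟩ hb hba
  have hz : x ∈ common D a b ∩ fx D X := ⟨⟨hx.1, mem_nb_comm hx.2.1 hb.1⟩, hx.2⟩
  obtain ⟨u, hu, hux⟩ : ∃ u ∈ nb D a ∩ fx D X, u ≠ x :=
    Set.exists_ne_of_one_lt_ncard (by rw [hP.deg a ha]; norm_num) x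
  obtain ⟨⟨hbu, hux', hau, hax, hbx⟩, hspan⟩ := hP.span hD ha hb.2 hab hz hu hux
  let t : Fin 4 → G := ![a, b, u, x]
  have ht : ∀ i, t i ∈ fx D X := by
    intro i; fin_cases i
    exacts [ha, hb.2, hu.2, hx.2]
  have hadj : ∀ i j : Fin 4, (i : ℕ) + 1 = j → ¬ Commute (t i) (t j) := by
    intro i j h
    fin_cases i <;> fin_cases j <;> simp at h <;> simp [t, hab.2, hbu, hux']
  have hcomm : ∀ i j : Fin 4, (i : ℕ) + 1 < j → Commute (t i) (t j) := by
    intro i j h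
    fin_cases i <;> fin_cases j <;> simp at h <;> simp [t, hau, hax, hbx]
  have hmem : ∀ i, t i ∈ Subgroup.closure (Set.range t) := fun i => Subgroup.subset_closure ⟨i, rfl⟩
  have hsub : fx D X ⊆ orb (Subgroup.closure (Set.range t)) a :=
    hspan _ (Subgroup.closure_mono (by rintro _ ⟨i, rfl⟩; exact ht i)) (hmem 0) (hmem 1) (hmem 2) (hmem 3)
  have hcard := ncard_fx_chain hD (Or.inr le_rfl) t ht hadj hcomm hsub
  norm_num [Nat.factorial] at hcard
  exact factor hD hX (Or.inr le_rfl) (by norm_num) t ht hadj hcomm ha (fun y hy => orb_subset (hmem 0) (hsub hy))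
    hsub (atFixed hG hL (by norm_num) hX ha)
    (by norm_num [Nat.factorial]; omega) (by norm_num [Nat.factorial]; omega)

end Cfsg.Agent.H25.M23
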