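import Cfsg.Agent.H25.M23.Local
import Cfsg.Agent.TT95.NormEleven

/-!
Type M(22): the constants for subgroups of order eleven.
-/

set_option autoImplicit false
set_option linter.unusedSectionVars false

namespace Cfsg.Agent.H25.M23

open Cfsg.Agent.TT95

variable {G : Type*} [Group G] [Finite G] {D : Set G} {d : G} (hG : Cfg23 D d)

include hG

theorem local11 : Local22 (locSet D d) 11 1 22 110 := by
  haveI := gen_loc hG
  haveI := loc_finite hG.lay.tt d
  have hfix : ∀ Y : Subgroup (ModCenter (Subgroup.closure (nb D d))), Nat.card Y = 11 →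
      ∃ a ∈ locSet D d, Y ≤ Subgroup.centralizer ({a} : Set (ModCenter (Subgroup.closure (nb D d)))) := fun Y hY =>
    eleven_has_fix hG.loc hG.core hY
  refine ⟨fun Y hY => ?_, fun Y hY => ?_, fun Y hY => ?_, fun Y Z hY hZ => eleven_conj hG.loc hG.core Y Z hY hZ⟩
  all_goals obtain ⟨a, ha, haY⟩ := hfix Y hY
  · show (fixD (locSet D d) Y).ncard = 1
    rw [eleven_fix hG.loc hG.core hY ha haY, Set.ncard_singleton]
  · exact (eleven_norm hG.loc hG.core hY ha haY).2
  · exact (eleven_norm hG.loc hG.core hY ha haY).1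

end Cfsg.Agent.H25.M23
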