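import Cfsg.Agent.H25.M23.Fixed
import Mathlib.GroupTheory.SchurZassenhaus

/-!
Type M(23): subgroups of order eleven.
-/

set_option autoImplicit false
set_option linter.unusedSectionVars false

namespace Cfsg.Agent.H25.M23

open Cfsg.Agent.TT95

variable {G : Type*} [Group G] [Finite G] {D : Set G} {d : G} (hG : Cfg23 D d) [Gen D]
  (hL : Local22 (locSet D d) 11 1 22 110)

include hG hL

theorem fx_eleven {X : Subgroup G} (hX : Nat.card X = 11) {a : G} (ha : a ∈ fx D X) :
    ∃ e ∈ nb D a, fx D X = {a, e} := by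
  haveI : Fact (Nat.Prime 11) := ⟨by norm_num⟩
  have hD := hG.lay.tt
  have hnofar : ∀ b ∈ fx D X, b ∉ far D a := by
    intro b hb hab
    have h := common_fx_modEq hD hX ha hb
    rw [hG.lay.card_far a ha.1 b hab] at h
    have hle : (common D a b ∩ fx D X).ncard ≤ 1 :=
      (atFixed hG hL (by norm_num) hX ha).fixed ▸ Set.ncard_le_ncard (fun z hz => ⟨hz.1.1, hz.2⟩)
    unfold Nat.ModEq at h
    omega
  obtain ⟨e, he⟩ := Set.ncard_eq_one.mp (atFixed hG hL (by norm_num) hX ha).fixed
  have hem : e ∈ nb D a ∩ fx D X := he ▸ rfl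
  refine ⟨e, hem.1, Set.ext fun x => ⟨fun hx => ?_, ?_⟩⟩
  · rcases mem_nb_or_far (a := a) hx.1 with h | h | h
    · exact Or.inl h
    · exact Or.inr (show x ∈ ({e} : Set G) from he ▸ ⟨h, hx⟩)
    · exact absurd h (hnofar x hx)
  · rintro (rfl | rfl)
    exacts [ha, hem.2]

theorem trans_eleven {X : Subgroup G} (hX : Nat.card X = 11) {a : G} (ha : a ∈ fx D X) :
    ∀ x ∈ fx D X, ∃ g ∈ Subgroup.normalizer (X : Set G), g * a * g⁻¹ = x := by
  haveI : Fact (Nat.Prime 11) := ⟨by norm_num⟩
  have hD := hG.lay.tt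
  obtain ⟨e, he, hfx⟩ := fx_eleven hG hL hX ha
  have hex : e ∈ fx D X := hfx ▸ Or.inr rfl
  intro x hx
  rw [hfx] at hx
  rcases hx with rfl | rfl
  · exact ⟨1, one_mem _, by group⟩
  obtain ⟨g, hga, hge⟩ := hG.lay.pairs a x x a ha.1 he.1 he.1 ha.1 he.2.1.symm he.2.1 he.2.2 he.2.2.symm
  set Y := X.map (MulAut.conj g).toMonoidHom with hY
  have hYc : Nat.card Y = 11 := by
    rw [hY, Subgroup.card_map_of_injective (MulAut.conj g).injective, hX]
  have hxY : x ∈ fx D Y := mem_fx.mpr ⟨he.1, by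
    rintro _ ⟨y, hy, rfl⟩
    have := (Commute.conj_iff g).2 ((mem_fx.mp ha).2 y hy)
    rwa [hga] at this⟩
  have haY : a ∈ fx D Y := mem_fx.mpr ⟨ha.1, by
    rintro _ ⟨y, hy, rfl⟩
    have := (Commute.conj_iff g).2 ((mem_fx.mp hex).2 y hy)
    rwa [hge] at this⟩
  obtain ⟨u, hua, hu⟩ := (atFixed hG hL (by norm_num) hYc haY).conj X hX (le_centralizer_of_fx ha)
  -- `u` fixes `a` and hence the other fixed transposition
  have hux : u * x * u⁻¹ = x := by
    have hm : u * x * u⁻¹ ∈ fx D X := mem_fx.mpr ⟨conj_mem hD u he.1, fun y hy => by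
      rw [← hu] at hy
      obtain ⟨z, hz, rfl⟩ := hy
      exact (Commute.conj_iff u).2 ((mem_fx.mp hxY).2 z hz)⟩
    rw [hfx] at hm
    rcases hm with h | h
    · exact absurd (mul_left_cancel (mul_right_cancel (h.trans hua.symm)) : x = a) he.2.1
    · exact h
  refine ⟨u * g, ?_, by rw [show u * g * a * (u * g)⁻¹ = u * (g * a * g⁻¹) * u⁻¹ by group, hga, hux]⟩
  rw [Subgroup.mem_normalizer_iff_map_conj_eq]
  conv_rhs => rw [← hu, hY, Subgroup.map_map]
  congr 1
  ext z
  simp

theorem eleven (X : Subgroup G) (hX : Nat.card X = 11) :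
    Nat.card (Subgroup.normalizer (X : Set G)) = 440 ∧
    ∃ a b : G, a ∈ D ∧ b ∈ D ∧ a ≠ b ∧ fx D X = {a, b} ∧
      ∃ F : Subgroup G, Nat.card ↥F = 55 ∧ X ≤ F ∧ F ⊓ Subgroup.centralizer (X : Set G) = X ∧
        F ⊓ Subgroup.closure ({a, b} : Set G) = ⊥ ∧
        (∀ x ∈ F, ∀ y ∈ Subgroup.closure ({a, b} : Set G), x * y = y * x) ∧
        F ⊔ Subgroup.closure ({a, b} : Set G) = Subgroup.normalizer (X : Set G) ⊓ Subgroup.centralizer ({a} : Set G) ∧
        ((Subgroup.normalizer (X : Set G) ⊓ Subgroup.centralizer ({a} : Set G)).subgroupOf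
          (Subgroup.normalizer (X : Set G))).index = 2 := by
  classical
  haveI : Fact (Nat.Prime 11) := ⟨by norm_num⟩
  have hD := hG.lay.tt
  obtain ⟨a, ha⟩ := exists_fx hG hX (by norm_num)
  have hA := atFixed hG hL (by norm_num) hX ha
  obtain ⟨e, he, hfx⟩ := fx_eleven hG hL hX ha
  have hex : e ∈ fx D X := hfx ▸ Or.inr rfl
  set N := Subgroup.normalizer (X : Set G) with hN
  set C := Subgroup.centralizer (X : Set G) with hC
  set M := N ⊓ Subgroup.centralizer ({a} : Set G) with hM
  have hMc : Nat.card M = 220 := hA.norm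
  have hNc : Nat.card N = 440 := by
    rw [card_orbit N a (fx D X) (fun g hg => fx_conj_mem hD hX hg ha) (trans_eleven hG hL hX ha), hfx,
      Set.ncard_pair he.2.1.symm, hA.norm]
  have hCN : C ≤ N := Subgroup.centralizer_le_normalizer _
  have hMfix : ∀ g ∈ M, g * a = a * g ∧ g * e = e * g := by
    intro g hg
    have h1 : g * a = a * g := Subgroup.mem_centralizer_singleton_iff.mp hg.2
    refine ⟨h1, mul_inv_eq_iff_eq_mul.mp ?_⟩
    have hm : g * e * g⁻¹ ∈ fx D X := fx_conj_mem hD hX hg.1 hex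
    rw [hfx] at hm
    rcases hm with h | h
    · exact absurd (mul_left_cancel (mul_right_cancel (h.trans (mul_inv_eq_iff_eq_mul.mpr h1).symm)) : e = a) he.2.1
    · exact h
  set E := Subgroup.closure ({a, e} : Set G) with hE
  have hEsub : (E : Set G) = {1, a, e, a * e} := by
    let E' : Subgroup G :=
      { carrier := {1, a, e, a * e}
        one_mem' := Or.inl rfl
        mul_mem' := by
          have ha2 := sq hD ha.1
          have he2 := sq hD he.1
          have hc : a * e = e * a := he.2.2.eq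
          have e1 : a * (a * e) = e := by rw [← mul_assoc, ha2, one_mul]
          have e2 : e * (a * e) = a := by rw [hc, ← mul_assoc, he2, one_mul]
          have e3 : a * e * a = e := by rw [mul_assoc, ← hc, e1]
          have e4 : a * e * e = a := by rw [mul_assoc, he2, mul_one]
          have e5 : a * e * (a * e) = 1 := by rw [mul_assoc, e2, ha2]
          intro x y hx hy
          simp only [Set.mem_insert_iff, Set.mem_singleton_iff] at hx hy ⊢
          have e0 : e * a = a * e := hc.symm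
          rcases hx with hx | hx | hx | hx <;> rcases hy with hy | hy | hy | hy <;>
            simp only [hx, hy, one_mul, mul_one, true_or, or_true, ha2, he2, e0, e1, e2, e3, e4, e5]
        inv_mem' := by
          rintro x (rfl | rfl | rfl | rfl)
          · simp
          · simp [inv_eq hD ha.1]
          · simp [inv_eq hD he.1]
          · simp [inv_eq hD ha.1, inv_eq hD he.1, he.2.2.eq] }
    have : E = E' := by
      refine le_antisymm ((Subgroup.closure_le _).2 ?_) ?_
      · rintro x (rfl | rfl)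
        · exact Or.inr (Or.inl rfl)
        · exact Or.inr (Or.inr (Or.inl rfl))
      · rintro x (rfl | rfl | rfl | rfl)
        · exact one_mem _
        · exact Subgroup.subset_closure (Or.inl rfl)
        · exact Subgroup.subset_closure (Or.inr rfl)
        · exact mul_mem (Subgroup.subset_closure (Or.inl rfl)) (Subgroup.subset_closure (Or.inr rfl))
    rw [this]
    rfl
  have hEc : Nat.card E = 4 := by
    rw [← SetLike.coe_sort_coe, hEsub, Nat.card_coe_set_eq]
    have h1a : (1 : G) ≠ a := (ne_one hD ha.1).symm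
    have h1e : (1 : G) ≠ e := (ne_one hD he.1).symm
    have hae : a ≠ e := he.2.1.symm
    have h1ae : (1 : G) ≠ a * e := fun h => hae ((eq_inv_of_mul_eq_one_left h.symm).trans (inv_eq hD he.1))
    have haae : a ≠ a * e := fun h => h1e (mul_left_cancel ((mul_one a).trans h))
    have heae : e ≠ a * e := fun h => h1a (mul_right_cancel ((one_mul e).trans h))
    rw [Set.ncard_insert_of_notMem (by simp [h1a, h1e, h1ae]), Set.ncard_insert_of_notMem (by simp [hae, haae]),
      Set.ncard_pair heae]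
  have hEM : E ≤ M := (Subgroup.closure_le _).2 (by
    rintro x (rfl | rfl)
    · exact ⟨hCN ha.2, Subgroup.mem_centralizer_singleton_iff.mpr rfl⟩
    · exact ⟨hCN hex.2, Subgroup.mem_centralizer_singleton_iff.mpr he.2.2.eq.symm⟩)
  have hEcen : ∀ g ∈ M, ∀ y ∈ E, g * y = y * g := by
    intro g hg y hy
    have h : E ≤ Subgroup.centralizer ({g} : Set G) := (Subgroup.closure_le _).2 (by
      rintro x (rfl | rfl)
      · exact Subgroup.mem_centralizer_singleton_iff.mpr (hMfix g hg).1.symm
      · exact Subgroup.mem_centralizer_singleton_iff.mpr (hMfix g hg).2.symm)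
    exact (Subgroup.mem_centralizer_singleton_iff.mp (h hy)).symm
  haveI : (E.subgroupOf M).Normal := ⟨fun x hx g => by
    show (g : G) * x * (g : G)⁻¹ ∈ E
    rw [hEcen g g.2 x hx, mul_inv_cancel_right]
    exact hx⟩
  have hEMc : Nat.card (E.subgroupOf M) = 4 := by
    rw [Nat.card_congr (Subgroup.subgroupOfEquivOfLe hEM).toEquiv, hEc]
  have hidx : (E.subgroupOf M).index = 55 := by
    have := (E.subgroupOf M).index_mul_card
    rw [hEMc, hMc] at this
    omega
  obtain ⟨K, hK⟩ := Subgroup.exists_right_complement'_of_coprime (N := E.subgroupOf M)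
    (by rw [hEMc, hidx]; norm_num)
  set F := K.map M.subtype with hF
  have hKc : Nat.card K = 55 := by
    have := hK.card_mul
    rw [hEMc, hMc] at this
    omega
  have hFc : Nat.card F = 55 := by
    rw [hF, Subgroup.card_map_of_injective M.subtype_injective, hKc]
  have hFM : F ≤ M := Subgroup.map_subtype_le K
  have hXM : X ≤ M := le_inf Subgroup.le_normalizer (le_centralizer_of_fx ha)
  have hXF : X ≤ F := by
    intro x hx
    obtain ⟨⟨⟨u, hu⟩, ⟨k, hk⟩⟩, huk⟩ := hK.2 ⟨x, hXM hx⟩
    have hx' : (u : G) * k = x := congrArg Subtype.val huk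
    have hc : Commute (u : G) (k : G) := (hEcen k k.2 u hu).symm
    have hu4 : (u : G) ^ 4 = 1 := hEc ▸ (congrArg Subtype.val (pow_card_eq_one' (G := E) (x := ⟨u, hu⟩)))
    have hx4 : x ^ 4 ∈ F := by
      rw [← hx', hc.mul_pow, hu4, one_mul]
      exact ⟨k ^ 4, pow_mem hk 4, by simp⟩
    have hx11 : x ^ 11 = 1 := hX ▸ (congrArg Subtype.val (pow_card_eq_one' (G := X) (x := ⟨x, hx⟩)))
    have := pow_mem hx4 3
    rwa [← pow_mul, show 4 * 3 = 11 + 1 by norm_num, pow_succ, hx11, one_mul] at this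
  have hXC : X ≤ C := by
    haveI := isCyclic_of_prime_card hX
    exact fun x hx => Subgroup.mem_centralizer_iff.mpr fun y hy => congrArg Subtype.val
      ((IsCyclic.commutative (α := X)).is_comm.comm ⟨y, hy⟩ ⟨x, hx⟩)
  have hFE : F ⊓ E = ⊥ := by
    apply Subgroup.eq_bot_of_card_eq
    have h1 : Nat.card ↥(F ⊓ E) ∣ 55 := hFc ▸ Subgroup.card_dvd_of_le inf_le_left
    have h2 : Nat.card ↥(F ⊓ E) ∣ 4 := hEc ▸ Subgroup.card_dvd_of_le inf_le_right
    exact Nat.eq_one_of_dvd_coprimes (by norm_num) h1 h2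
  have hsup : F ⊔ E = M := by
    refine le_antisymm (sup_le hFM hEM) fun g hg => ?_
    obtain ⟨⟨⟨u, hu⟩, ⟨k, hk⟩⟩, huk⟩ := hK.2 ⟨g, hg⟩
    have hg' : (u : G) * k = g := congrArg Subtype.val huk
    rw [← hg']
    exact mul_mem (Subgroup.mem_sup_right hu) (Subgroup.mem_sup_left ⟨k, hk, rfl⟩)
  refine ⟨hNc, a, e, ha.1, he.1, he.2.1.symm, hfx, F, hFc, hXF, ?_, hFE, fun x hx => hEcen x (hFM hx), hsup, ?_⟩
  · refine (Subgroup.eq_of_le_of_card_ge (le_inf hXF hXC) ?_).symm
    have h1 : Nat.card ↥(F ⊓ C) ∣ 55 := hFc ▸ Subgroup.card_dvd_of_le inf_le_left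
    have h2 : Nat.card ↥(F ⊓ C) ∣ 44 := by
      have h := Subgroup.card_dvd_of_le
        (show F ⊓ C ≤ C ⊓ Subgroup.centralizer ({a} : Set G) from le_inf inf_le_right (inf_le_left.trans
          (hFM.trans inf_le_right)))
      rwa [hA.cent] at h
    rw [hX]
    exact Nat.le_of_dvd (by norm_num) (by simpa using Nat.dvd_gcd h1 h2)
  · have := (M.subgroupOf N).index_mul_card
    rw [Nat.card_congr (Subgroup.subgroupOfEquivOfLe (inf_le_left : M ≤ N)).toEquiv, hMc, hNc] at this
    exact Nat.eq_of_mul_eq_mul_right (by norm_num : 0 < 220) (this.trans (by norm_num))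

end Cfsg.Agent.H25.M23
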