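import Cfsg.Agent.H25.M23.Fixed

/-!
Type M(23): subgroups of order five.
-/

set_option autoImplicit false
set_option linter.unusedSectionVars false

namespace Cfsg.Agent.H25.M23

open Cfsg.Agent.TT95

variable {G : Type*} [Group G] [Finite G] {D : Set G} {d : G} (hG : Cfg23 D d) [Gen D]
  (hL : Local22 (locSet D d) 5 10 600 2400)

include hG hL

theorem pet_five {X : Subgroup G} (hX : Nat.card X = 5) {a : G} (ha : a ∈ fx D X) :
    Pet D (nb D a ∩ fx D X) := by
  haveI : Fact (Nat.Prime 5) := ⟨by norm_num⟩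
  have hD := hG.lay.tt
  set P := nb D a ∩ fx D X with hP
  have hcl : Closed D P := ⟨fun x hx => hx.1.1,
    fun x hx y hy => ⟨(nb_closed hD a).2 x hx.1 y hy.1, (fx_closed hD hX).2 x hx.2 y hy.2⟩⟩
  have hcardP : P.ncard = 10 := (atFixed hG hL (by norm_num) hX ha).fixed
  have hdeg : ∀ x ∈ P, (nb D x ∩ P).ncard = 3 := by
    intro x hx
    have hS : nb D x ∩ P = common D a x ∩ fx D X := by
      ext z; exact ⟨fun h => ⟨⟨h.2.1, h.1⟩, h.2.2⟩, fun h => ⟨h.1.2, h.1.1, h.2⟩⟩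
    have h := common_fx_modEq hD hX ha hx.2
    rw [hG.lay.card_edge a ha.1 x hx.1, ← hS] at h
    have hT : Even (P ∩ far D x).ncard := even_of_conj hD hx.1.1
      (fun y hy => by
        refine ⟨hcl.2 x hx y hy.1, conj_mem' hD hy.2.1 hx.1.1, fun hc => hy.2.2 ?_⟩
        have h' := (Commute.conj_iff x).2 hc
        rw [inv_eq hD hx.1.1, show x * (x * y * x) * x = (x * x) * y * (x * x) by group,
          sq hD hx.1.1, one_mul, mul_one] at h'
        simpa [mul_assoc, sq hD hx.1.1] using h')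
      fun y hy => hy.2.2
    have hsplit : P = {x} ∪ (nb D x ∩ P) ∪ (P ∩ far D x) := by
      ext z
      constructor
      · intro hz
        rcases mem_nb_or_far (a := x) hz.1.1 with e | e | e
        · exact Or.inl (Or.inl e)
        · exact Or.inl (Or.inr ⟨e, hz⟩)
        · exact Or.inr ⟨hz, e⟩
      · rintro ((rfl | ⟨-, hz⟩) | ⟨hz, -⟩)
        · exact hx
        · exact hz
        · exact hz
    have hd1 : Disjoint ({x} : Set G) (nb D x ∩ P) := by
      rw [Set.disjoint_singleton_left]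
      exact fun hm => hm.1.2.1 rfl
    have hd2 : Disjoint ({x} ∪ (nb D x ∩ P)) (P ∩ far D x) := by
      rw [Set.disjoint_left]
      rintro z (rfl | hz) hz'
      · exact hz'.2.2 (Commute.refl _)
      · exact hz'.2.2 hz.1.2.2
    have hsum : P.ncard = 1 + (nb D x ∩ P).ncard + (P ∩ far D x).ncard := by
      conv_lhs => rw [hsplit]
      rw [Set.ncard_union_eq hd2, Set.ncard_union_eq hd1, Set.ncard_singleton]
    obtain ⟨r, hr⟩ := hT
    unfold Nat.ModEq at h
    omega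
  refine ⟨hcl, hdeg, fun x hx y hy => ?_, fun x hx y hy hxy => ?_⟩
  · by_contra hne
    obtain ⟨z, ⟨hzx, hzy⟩, hzP⟩ := Set.nonempty_iff_ne_empty.mpr hne
    obtain ⟨w, hw, hwn⟩ : ∃ w ∈ nb D x ∩ P, w ∉ ({y, z} : Set G) := by
      refine Set.exists_mem_notMem_of_ncard_lt_ncard ?_ (Set.toFinite _)
      rw [hdeg x hx, Set.ncard_pair hzy.2.1.symm]
      norm_num
    simp only [Set.mem_insert_iff, Set.mem_singleton_iff, not_or] at hwn
    have hnb : nb D x ∩ P = {y, z, w} := by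
      refine (Set.eq_of_subset_of_ncard_le ?_ ?_ (Set.toFinite _)).symm
      · intro v hv
        rcases hv with rfl | rfl | rfl
        exacts [hy, ⟨hzx, hzP⟩, hw]
      · rw [hdeg x hx, Set.ncard_eq_three.mpr ⟨y, z, w, hzy.2.1.symm, Ne.symm hwn.1, Ne.symm hwn.2, rfl⟩]
    -- the third member commutes with both
    have hcl' : ∀ v ∈ ({y, z} : Set G), Commute w v := by
      intro v hv
      by_contra hwv
      have hvm : v ∈ nb D x ∩ P := by
        rcases hv with rfl | rfl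
        exacts [hy, ⟨hzx, hzP⟩]
      have h3 : v * w * v ∈ nb D x ∩ P := ⟨(nb_closed hD x).2 v hvm.1 w hw.1, hcl.2 v hvm.2 w hw.2⟩
      have hvD : v ∈ D := hvm.1.1
      have hback : v * (v * w * v) * v = w := by
        rw [show v * (v * w * v) * v = (v * v) * w * (v * v) by group, sq hD hvD, one_mul, mul_one]
      have hno : ∀ o ∈ ({y, z} : Set G), Commute o v → v * w * v ≠ o := fun o ho hov e => by
        rw [e, ← hov.eq, mul_assoc, sq hD hvD, mul_one] at hback
        rcases ho with rfl | rfl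
        exacts [hwn.1 hback.symm, hwn.2 hback.symm]
      rw [hnb] at h3
      rcases h3 with e | e | e
      · exact hno y (Or.inl rfl) (by rcases hv with rfl | rfl; exacts [Commute.refl _, hzy.2.2]) e
      · exact hno z (Or.inr rfl) (by rcases hv with rfl | rfl; exacts [hzy.2.2.symm, Commute.refl _]) e
      · apply hwv
        show w * v = v * w
        calc w * v = (v * w * v) * v := by rw [e]
          _ = v * w * (v * v) := by simp only [mul_assoc]
          _ = v * w := by rw [sq hD hvD, mul_one]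
    -- so a closed four-clique
    obtain ⟨u, hu, hun⟩ : ∃ u ∈ P, u ∉ ({x, y, z, w} : Set G) := by
      refine Set.exists_mem_notMem_of_ncard_lt_ncard ?_ (Set.toFinite _)
      have h1 := Set.ncard_insert_le x ({y, z, w} : Set G)
      have h2 := hdeg x hx
      rw [hnb] at h2
      omega
    have hxu : u ∈ far D x := ⟨hu.1.1, fun hc => hun (Set.mem_insert_of_mem _
      (hnb ▸ ⟨⟨hu.1.1, fun e => hun (Or.inl e), hc⟩, hu⟩))⟩
    have hfar := common_nb_fx_modEq hD hX hx.2 hu.2 ha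
    rw [hG.lay.card_deg x hx.1.1 u hxu a ⟨mem_nb_comm ha.1 hx.1, mem_nb_comm ha.1 hu.1⟩] at hfar
    obtain ⟨v, ⟨⟨hvx, hvu⟩, hva⟩, hvX⟩ : (common D x u ∩ nb D a ∩ fx D X).Nonempty :=
      Set.nonempty_of_ncard_ne_zero (fun e => by rw [e] at hfar; norm_num [Nat.ModEq] at hfar)
    have hvnb : v ∈ nb D x ∩ P := ⟨hvx, hva, hvX⟩
    rw [hnb] at hvnb
    have hK : ({x, y, z, w} : Set G) \ {v} ⊆ nb D v ∩ P := by
      rintro o ⟨ho, hov⟩
      have hoP : o ∈ P := by
        rcases ho with rfl | rfl | rfl | rfl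
        exacts [hx, hy.2, hzP, hw.2]
      refine ⟨⟨hoP.1.1, hov, ?_⟩, hoP⟩
      rcases ho with rfl | rfl | rfl | rfl
      · exact hvx.2.2.symm
      all_goals rcases hvnb with rfl | rfl | rfl
      · exact Commute.refl _
      · exact hzy.2.2.symm
      · exact hcl' _ (Or.inl rfl)
      · exact hzy.2.2
      · exact Commute.refl _
      · exact hcl' _ (Or.inr rfl)
      · exact (hcl' _ (Or.inl rfl)).symm
      · exact (hcl' _ (Or.inr rfl)).symm
      · exact Commute.refl _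
    have hvK : v ∈ ({x, y, z, w} : Set G) := Set.mem_insert_of_mem _ hvnb
    have heq : ({x, y, z, w} : Set G) \ {v} = nb D v ∩ P := by
      refine Set.eq_of_subset_of_ncard_le hK ?_ (Set.toFinite _)
      rw [hdeg v ⟨hva, hvX⟩, Set.ncard_diff_singleton_of_mem hvK,
        Set.ncard_insert_of_notMem (show x ∉ ({y, z, w} : Set G) from fun hm => (hnb.symm ▸ hm :
          x ∈ nb D x ∩ P).1.2.1 rfl), ← hnb, hdeg x hx]
    have : u ∈ nb D v ∩ P := ⟨mem_nb_comm hu.1.1 hvu, hu⟩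
    rw [← heq] at this
    exact hun this.1
  · have h := common_nb_fx_modEq hD hX hx.2 hy.2 ha
    rw [hG.lay.card_deg x hx.1.1 y hxy a ⟨mem_nb_comm ha.1 hx.1, mem_nb_comm ha.1 hy.1⟩, Set.inter_assoc,
      ← hP] at h
    have hle : (common D x y ∩ P).ncard ≤ 3 :=
      hdeg x hx ▸ Set.ncard_le_ncard (fun z hz => ⟨hz.1.1, hz.2⟩)
    unfold Nat.ModEq at h
    omega

theorem six_common {X : Subgroup G} (hX : Nat.card X = 5) {a b : G} (ha : a ∈ fx D X) (hb : b ∈ fx D X)
    (hab : b ∈ far D a) : (common D a b ∩ fx D X).ncard = 6 := by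
  haveI : Fact (Nat.Prime 5) := ⟨by norm_num⟩
  have hD := hG.lay.tt
  have h := common_fx_modEq hD hX ha hb
  rw [hG.lay.card_far a ha.1 b hab] at h
  have hle : (common D a b ∩ fx D X).ncard ≤ 10 :=
    (atFixed hG hL (by norm_num) hX ha).fixed ▸ Set.ncard_le_ncard (fun z hz => ⟨hz.1.1, hz.2⟩)
  have hne : (common D a b ∩ fx D X).ncard ≠ 1 := by
    intro h1
    obtain ⟨x, hx⟩ := Set.ncard_eq_one.mp h1
    have hxm : x ∈ common D a b ∩ fx D X := hx ▸ rfl
    obtain ⟨y, hy, -⟩ := (pet_five hG hL hX hxm.2).unique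
      (x := a) (y := b) ⟨mem_nb_comm ha.1 hxm.1.1, ha⟩ ⟨mem_nb_comm hb.1 hxm.1.2, hb⟩ hab
    have hym : y ∈ common D a b ∩ fx D X := ⟨hy.1, hy.2.2⟩
    rw [hx] at hym
    exact hy.2.1.2.1 hym
  unfold Nat.ModEq at h
  omega

/-- A chain of six fixed transpositions. -/
theorem exists_chain_five {X : Subgroup G} (hX : Nat.card X = 5) :
    ∃ t : Fin 6 → G, (∀ i, t i ∈ fx D X) ∧
      (∀ i j : Fin 6, (i : ℕ) + 1 = j → ¬ Commute (t i) (t j)) ∧
      (∀ i j : Fin 6, (i : ℕ) + 1 < j → Commute (t i) (t j)) ∧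
      fx D X ⊆ orb (Subgroup.closure (Set.range t)) (t 0) := by
  classical
  haveI : Fact (Nat.Prime 5) := ⟨by norm_num⟩
  have hD := hG.lay.tt
  obtain ⟨a, ha⟩ := exists_fx hG hX (by norm_num)
  have hPa := pet_five hG hL hX ha
  have hcardPa : (nb D a ∩ fx D X).ncard = 10 := (atFixed hG hL (by norm_num) hX ha).fixed
  obtain ⟨x, hx⟩ : (nb D a ∩ fx D X).Nonempty :=
    Set.nonempty_of_ncard_ne_zero (by rw [hcardPa]; norm_num)
  have hPx := pet_five hG hL hX hx.2
  have haPx : a ∈ nb D x ∩ fx D X := ⟨mem_nb_comm ha.1 hx.1, ha⟩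
  -- `b` in the Petersen graph at `x`, far from `a`
  obtain ⟨b, hb, hbn⟩ : ∃ b ∈ nb D x ∩ fx D X, b ∉ insert a (nb D a ∩ (nb D x ∩ fx D X)) := by
    refine Set.exists_mem_notMem_of_ncard_lt_ncard ?_ (Set.toFinite _)
    have h := Set.ncard_insert_le a (nb D a ∩ (nb D x ∩ fx D X))
    rw [hPx.deg a haPx] at h
    rw [(atFixed hG hL (by norm_num) hX hx.2).fixed]
    omega
  have hab : b ∈ far D a := ⟨hb.1.1, fun hc => hbn
    (Set.mem_insert_of_mem _ ⟨⟨hb.1.1, fun e => hbn (Or.inl e), hc⟩, hb⟩)⟩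
  obtain ⟨v, hv, -⟩ := hPx.unique haPx hb hab
  obtain ⟨u, hu, huv⟩ : ∃ u ∈ nb D a ∩ (nb D x ∩ fx D X), u ≠ v :=
    Set.exists_ne_of_one_lt_ncard (by rw [hPx.deg a haPx]; norm_num) v
  obtain ⟨⟨hbu, huv', hau, hav, hbv⟩, -⟩ := hPx.span hD haPx hb hab hv hu huv
  -- the six common neighbours of `a` and `b`
  set C := common D a b ∩ fx D X with hC
  set M := (nb D a ∩ fx D X) \ C with hM
  have hC6 : C.ncard = 6 := six_common hG hL hX ha hb.2 hab
  have hCP : C ⊆ nb D a ∩ fx D X := fun z hz => ⟨hz.1.1, hz.2⟩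
  have hM4 : M.ncard = 4 := by
    rw [hM, Set.ncard_diff hCP, hcardPa, hC6]
  have hone : ∀ c ∈ C, (nb D c ∩ C).ncard = 1 := by
    intro c hc
    have h := (pet_five hG hL hX hc.2).far a ⟨mem_nb_comm ha.1 hc.1.1, ha⟩ b
      ⟨mem_nb_comm hb.1.1 hc.1.2, hb.2⟩ hab
    rw [show nb D c ∩ C = common D a b ∩ (nb D c ∩ fx D X) from by
      ext z; exact ⟨fun h => ⟨h.2.1, h.1, h.2.2⟩, fun h => ⟨h.2.1, h.1, h.2.2⟩⟩]
    exact h
  have htwo : ∀ c ∈ C, (nb D c ∩ M).ncard = 2 := by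
    intro c hc
    have h := hPa.deg c (hCP hc)
    rw [← Set.ncard_inter_add_ncard_diff_eq_ncard (nb D c ∩ (nb D a ∩ fx D X)) C (Set.toFinite _),
      show nb D c ∩ (nb D a ∩ fx D X) ∩ C = nb D c ∩ C from by
        ext z; exact ⟨fun h => ⟨h.1.1, h.2⟩, fun h => ⟨⟨h.1, hCP h.2⟩, h.2⟩⟩,
      Set.inter_diff_assoc, ← hM, hone c hc] at h
    omega
  have hall : ∀ m ∈ M, nb D m ∩ M = ∅ := by
    have hCM : ∀ m ∈ M, (nb D m ∩ C).ncard + (nb D m ∩ M).ncard = 3 := by
      intro m hm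
      have h := hPa.deg m hm.1
      rw [← Set.ncard_inter_add_ncard_diff_eq_ncard (nb D m ∩ (nb D a ∩ fx D X)) C (Set.toFinite _),
        show nb D m ∩ (nb D a ∩ fx D X) ∩ C = nb D m ∩ C from by
          ext z; exact ⟨fun h => ⟨h.1.1, h.2⟩, fun h => ⟨⟨h.1, hCP h.2⟩, h.2⟩⟩,
        Set.inter_diff_assoc, ← hM] at h
      exact h
    set sC := C.toFinite.toFinset with hsC
    set sM := M.toFinite.toFinset with hsM
    have hdc := Finset.sum_card_bipartiteAbove_eq_sum_card_bipartiteBelow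
      (s := sC) (t := sM) (fun c m => m ∈ nb D c)
    have habove : ∀ c ∈ sC, (sM.bipartiteAbove (fun c m => m ∈ nb D c) c).card = 2 := by
      intro c hc
      rw [← Set.ncard_coe_finset, Finset.coe_bipartiteAbove, ← htwo c (Set.Finite.mem_toFinset _ |>.mp hc)]
      congr 1
      ext m
      simp [hsM, and_comm]
    have hbelow : ∀ m ∈ sM, (sC.bipartiteBelow (fun c m => m ∈ nb D c) m).card = (nb D m ∩ C).ncard := by
      intro m hm
      have hmM : m ∈ M := Set.Finite.mem_toFinset _ |>.mp hm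
      rw [← Set.ncard_coe_finset, Finset.coe_bipartiteBelow]
      congr 1
      ext c
      simp only [hsC, Set.Finite.mem_toFinset, Set.mem_setOf_eq, Set.mem_inter_iff]
      exact ⟨fun h => ⟨mem_nb_comm h.1.1.1.1 h.2, h.1⟩, fun h => ⟨h.2, mem_nb_comm hmM.1.1.1 h.1⟩⟩
    rw [Finset.sum_congr rfl habove, Finset.sum_congr rfl hbelow, Finset.sum_const, smul_eq_mul,
      show sC.card = 6 by rw [hsC, ← Set.ncard_eq_toFinset_card _ C.toFinite, hC6]] at hdc
    intro m hm
    by_contra hne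
    have hpos : 0 < (nb D m ∩ M).ncard :=
      (Set.ncard_pos (Set.toFinite _)).mpr (Set.nonempty_iff_ne_empty.mpr hne)
    have hlt : ∑ m ∈ sM, (nb D m ∩ C).ncard < ∑ _m ∈ sM, 3 :=
      Finset.sum_lt_sum (fun i hi => by have := hCM i (Set.Finite.mem_toFinset _ |>.mp hi); omega)
        ⟨m, (Set.Finite.mem_toFinset _).mpr hm, by have := hCM m hm; omega⟩
    rw [← hdc, Finset.sum_const, smul_eq_mul,
      show sM.card = 4 by rw [hsM, ← Set.ncard_eq_toFinset_card _ M.toFinite, hM4]] at hlt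
    omega
  have huM : u ∈ M := ⟨⟨hu.1, hu.2.2⟩, fun h => hbu h.1.2.2.2⟩
  have hxu : x ∈ nb D u ∩ (nb D a ∩ fx D X) := ⟨mem_nb_comm hx.1.1 hu.2.1, hx⟩
  obtain ⟨y, hy, hyx⟩ : ∃ y ∈ nb D u ∩ (nb D a ∩ fx D X), y ≠ x :=
    Set.exists_ne_of_one_lt_ncard (by rw [hPa.deg u huM.1]; norm_num) x
  have hyC : y ∈ C := by
    by_contra hyC
    have : y ∈ nb D u ∩ M := ⟨hy.1, hy.2, hyC⟩
    rw [hall u huM] at this
    exact this
  have hxy : y ∈ far D x := hPa.nbrs_far huM.1 hxu hy hyx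
  have hyu : Commute u y := hy.1.2.2
  have hxC : x ∈ C := ⟨⟨hx.1, mem_nb_comm hx.2.1 hb.1⟩, hx.2⟩
  have hvC : v ∈ C := ⟨⟨hv.1.1, hv.1.2⟩, hv.2.2⟩
  have hvy : ¬ Commute v y := fun hc => by
    obtain ⟨c, hc'⟩ := Set.ncard_eq_one.mp (hone v hvC)
    have h1 : x ∈ nb D v ∩ C := ⟨mem_nb_comm hx.2.1 hv.2.1, hxC⟩
    have hne : y ≠ v := fun e => huv' (e ▸ hyu)
    have h2 : y ∈ nb D v ∩ C := ⟨⟨hy.2.2.1, hne, hc⟩, hyC⟩
    rw [hc'] at h1 h2
    exact hyx (h2.trans h1.symm)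
  let t : Fin 6 → G := ![a, b, u, v, y, x]
  have ht : ∀ i, t i ∈ fx D X := by
    intro i; fin_cases i
    exacts [ha, hb.2, hu.2.2, hv.2.2, hy.2.2, hx.2]
  have hcux : Commute u x := hu.2.1.2.2.symm
  have hcvx : Commute v x := hv.2.1.2.2.symm
  have hcbx : Commute b x := hb.1.2.2.symm
  have hcax : Commute a x := hx.1.2.2
  have hcay : Commute a y := hy.2.1.2.2
  have hcby : Commute b y := hyC.1.2.2.2
  have hyx' : ¬ Commute y x := fun h => hxy.2 h.symm
  refine ⟨t, ht, ?_, ?_, ?_⟩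
  · intro i j h
    fin_cases i <;> fin_cases j <;> simp at h <;> simp [t, hab.2, hbu, huv', hvy, hyx']
  · intro i j h
    fin_cases i <;> fin_cases j <;> simp at h <;>
      simp [t, hau, hav, hcay, hcax, hbv, hcby, hcbx, hyu, hcux, hcvx]
  · have hmem : ∀ i, t i ∈ Subgroup.closure (Set.range t) := fun i => Subgroup.subset_closure ⟨i, rfl⟩
    set H := Subgroup.closure (Set.range t) with hH
    have hHF : H ≤ Subgroup.closure (fx D X) := Subgroup.closure_mono (by rintro _ ⟨i, rfl⟩; exact ht i)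
    -- inside the neighbourhood of `a`
    have hvPa : v ∈ nb D a ∩ fx D X := hCP hvC
    have huvfar : v ∈ far D u := ⟨hvPa.1.1, huv'⟩
    have hzc : x ∈ common D u v ∩ (nb D a ∩ fx D X) :=
      ⟨⟨hxu.1, mem_nb_comm hx.2.1 hv.2.1⟩, hx⟩
    obtain ⟨-, hspan⟩ := hPa.span hD huM.1 hvPa huvfar hzc hy hyx
    let H' := Subgroup.closure ({u, v, y, x} : Set G)
    have hH'H : H' ≤ H := (Subgroup.closure_le _).2 (by
      intro z hz
      rcases hz with rfl | rfl | rfl | rfl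
      exacts [hmem 2, hmem 3, hmem 4, hmem 5])
    have hH'P : H' ≤ Subgroup.closure (nb D a ∩ fx D X) := Subgroup.closure_mono (by
      intro z hz
      rcases hz with rfl | rfl | rfl | rfl
      exacts [huM.1, hvPa, hy.2, hx])
    have hsub := hspan H' hH'P (Subgroup.subset_closure (by simp)) (Subgroup.subset_closure (by simp))
      (Subgroup.subset_closure (by simp)) (Subgroup.subset_closure (by simp))
    have hbO : b ∈ orb H a := orb_step hD (self_mem_orb H a) ha.1 hb.1.1 hab.2 (hmem 0) (hmem 1)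
    have huO : u ∈ orb H a := orb_step hD hbO hb.1.1 hu.1.1 hbu (hmem 1) (hmem 2)
    show fx D X ⊆ orb H a
    refine subset_orb hD (fx_closed hD hX) hHF ha (fun z hz => ?_) (fun z hz haz => ?_)
    · obtain ⟨g, hg, rfl⟩ := hsub hz
      exact orb_conj (hH'H hg) huO
    · exact Set.nonempty_of_ncard_ne_zero ((six_common hG hL hX ha hz haz).trans_ne (by norm_num))

theorem five (X : Subgroup G) (hX : Nat.card X = 5) :
    Nat.card (Subgroup.centralizer (X : Set G)) = Nat.factorial 7 * 5 ∧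
    Nat.card (Subgroup.normalizer (X : Set G)) = Nat.factorial 7 * 20 ∧
    ∃ F : Subgroup G, Nat.card ↥F = 20 ∧ X ≤ F ∧ F ⊓ Subgroup.centralizer (X : Set G) = X ∧
      F ⊓ Subgroup.closure (fx D X) = ⊥ ∧
      (∀ x ∈ F, ∀ y ∈ Subgroup.closure (fx D X), x * y = y * x) ∧
      F ⊔ Subgroup.closure (fx D X) = Subgroup.normalizer (X : Set G) ∧
      Nonempty (↥(Subgroup.closure (fx D X)) ≃* Equiv.Perm (Fin 7)) := by
  haveI : Fact (Nat.Prime 5) := ⟨by norm_num⟩
  have hD := hG.lay.tt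
  obtain ⟨t, ht, hadj, hcomm, hsub⟩ := exists_chain_five hG hL hX
  have hcard := ncard_fx_chain hD (n := 6) (Or.inr (by norm_num)) t ht hadj hcomm hsub
  norm_num [Nat.factorial] at hcard
  exact factor hD hX (n := 6) (Or.inr (by norm_num)) (by norm_num) t ht hadj hcomm (ht 0)
    (fun y hy => orb_subset (Subgroup.subset_closure (Set.mem_range_self (0 : Fin 6))) (hsub hy))
    hsub (atFixed hG hL (by norm_num) hX (ht 0))
    (by norm_num [Nat.factorial]; omega) (by norm_num [Nat.factorial]; omega)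

end Cfsg.Agent.H25.M23
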