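import Cfsg.Agent.S2530
import Cfsg.Agent.ClMax99.SymIndex

/-!
Coxeter chains of involutions and inner automorphisms of symmetric groups.
-/

set_option autoImplicit false

namespace Cfsg.Agent.H25.M23

open Equiv

/-- A chain of involutions, adjacent ones braided and the others commuting, not all commuting, gives a
copy of the symmetric group. -/
theorem exists_chain_hom {G : Type*} [Group G] {n : ℕ} (hn : n = 2 ∨ 4 ≤ n) (t : Fin n → G)
    (hsq : ∀ i, t i * t i = 1)
    (hbraid : ∀ i j : Fin n, (i : ℕ) + 1 = j → t i * t j * t i = t j * t i * t j)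
    (hcomm : ∀ i j : Fin n, (i : ℕ) + 1 < j → Commute (t i) (t j))
    (hne : ∃ i j, ¬ Commute (t i) (t j)) :
    ∃ f : Perm (Fin (n + 1)) →* G, Function.Injective f ∧ f.range = Subgroup.closure (Set.range t) ∧
      ∀ i : Fin n, f (swap i.castSucc i.succ) = t i := by
  obtain ⟨cs, hcs⟩ := Cfsg.Agent.S2530.result n
  have h3 : ∀ i j : Fin n, (i : ℕ) + 1 = j → (t i * t j) ^ 3 = 1 := by
    intro i j h
    calc (t i * t j) ^ 3 = (t i * t j * t i) * (t j * t i * t j) := by
          rw [pow_succ, pow_succ, pow_one]; simp only [mul_assoc]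
      _ = (t i * t j * t i) * (t i * t j * t i) := by rw [hbraid i j h]
      _ = t i * t j * (t i * t i) * t j * t i := by simp only [mul_assoc]
      _ = 1 := by rw [hsq, mul_one, mul_assoc (t i), hsq, mul_one, hsq]
  have hlift : (CoxeterMatrix.A n).IsLiftable t := by
    intro i j
    show (t i * t j) ^ (if _ then _ else _) = 1
    by_cases hij : i = j
    · subst hij; rw [if_pos rfl, pow_one]; exact hsq i
    rw [if_neg hij]
    have hij' : (i : ℕ) ≠ j := fun h => hij (Fin.ext h)
    by_cases h : (j : ℕ) + 1 = i ∨ (i : ℕ) + 1 = j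
    · rw [if_pos h]
      rcases h with h | h
      · have := h3 j i h
        rw [← inv_eq_one, ← inv_pow, mul_inv_rev, inv_eq_of_mul_eq_one_right (hsq j),
          inv_eq_of_mul_eq_one_right (hsq i)] at this
        exact this
      · exact h3 i j h
    · rw [if_neg h]
      obtain ⟨h1, h2⟩ := not_or.mp h
      have hc : Commute (t i) (t j) := by
        rcases Nat.lt_or_gt_of_ne hij' with hlt | hlt
        · exact hcomm i j (by omega)
        · exact (hcomm j i (by omega)).symm
      rw [sq, mul_assoc, ← mul_assoc (t j), ← hc.eq, mul_assoc (t i), hsq, mul_one, hsq]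
  let f := cs.lift ⟨t, hlift⟩
  have hf : ∀ i : Fin n, f (swap i.castSucc i.succ) = t i := fun i => by
    rw [← hcs i]; exact cs.lift_apply_simple hlift i
  obtain ⟨i₀, j₀, hne⟩ := hne
  have hkey : ¬ ∀ u v : Perm (Fin (n + 1)), Commute (f u) (f v) := fun h =>
    hne (hf i₀ ▸ hf j₀ ▸ h (swap i₀.castSucc i₀.succ) (swap j₀.castSucc j₀.succ))
  refine ⟨f, ?_, ?_, hf⟩
  · rw [← MonoidHom.ker_eq_bot_iff]
    by_contra hker
    apply hkey
    rcases hn with rfl | hn
    · have hsum := f.ker.card_mul_index
      rw [Subgroup.index_ker, Nat.card_perm, Nat.card_fin] at hsum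
      haveI : Finite f.range := Finite.of_surjective f.rangeRestrict f.rangeRestrict_surjective
      have h1 : Nat.card f.ker ≠ 1 := fun h => hker (Subgroup.eq_bot_of_card_eq _ h)
      have h6 : Nat.card f.range ∣ 6 := ⟨Nat.card f.ker, by
        rw [mul_comm]; simpa [Nat.factorial] using hsum.symm⟩
      have hle : Nat.card f.range ≤ 3 := by
        have h0 : Nat.card f.ker ≠ 0 := Nat.card_pos.ne'
        have h2 : 2 * Nat.card f.range ≤ Nat.card f.ker * Nat.card f.range :=
          Nat.mul_le_mul_right _ (by omega)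
        rw [hsum] at h2
        have e6 : Nat.factorial (2 + 1) = 6 := rfl
        rw [e6] at h2
        omega
      have hcyc : IsCyclic f.range := by
        have h0 : 0 < Nat.card f.range := Nat.card_pos
        rcases (by omega : Nat.card f.range = 1 ∨ Nat.card f.range = 2 ∨ Nat.card f.range = 3) with h | h | h
        · exact @isCyclic_of_subsingleton _ _ (Finite.card_le_one_iff_subsingleton.mp h.le)
        · haveI := Fact.mk Nat.prime_two; exact isCyclic_of_prime_card h
        · haveI := Fact.mk Nat.prime_three; exact isCyclic_of_prime_card h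
      intro u v
      have hc := (IsCyclic.commutative (α := f.range)).is_comm.comm ⟨f u, u, rfl⟩ ⟨f v, v, rfl⟩
      exact congrArg Subtype.val hc
    · have hle : alternatingGroup (Fin (n + 1)) ≤ f.ker :=
        Equiv.Perm.alternatingGroup_le_of_normal (by rw [Nat.card_fin]; omega)
          ((Subgroup.nontrivial_iff_ne_bot _).2 hker)
      have hsw : ∀ u v : Perm (Fin (n + 1)), f (u * v * u⁻¹ * v⁻¹) = 1 := fun u v => hle (by
        rw [Equiv.Perm.mem_alternatingGroup]
        simp [mul_comm, mul_assoc, mul_left_comm])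
      intro u v
      have h := hsw u v
      rw [map_mul, map_mul, map_mul, map_inv, map_inv, mul_inv_eq_one, mul_inv_eq_iff_eq_mul] at h
      exact h
  · apply le_antisymm
    · rintro _ ⟨u, rfl⟩
      have hu : u ∈ Submonoid.closure (Set.range fun i : Fin n => swap i.castSucc i.succ) := by
        rw [Equiv.Perm.mclosure_swap_castSucc_succ]; trivial
      induction hu using Submonoid.closure_induction with
      | mem u hu => obtain ⟨i, rfl⟩ := hu; rw [hf]; exact Subgroup.subset_closure ⟨i, rfl⟩
      | one => rw [map_one]; exact one_mem _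
      | mul u v _ _ h h' => rw [map_mul]; exact mul_mem h h'
    · rw [Subgroup.closure_le]
      rintro _ ⟨i, rfl⟩
      exact ⟨_, hf i⟩

theorem exists_third {Ω : Type*} [Fintype Ω] [DecidableEq Ω] (h3 : 3 ≤ Fintype.card Ω) (u v : Ω) :
    ∃ z, z ≠ u ∧ z ≠ v := by
  obtain ⟨z, -, hz⟩ := Finset.exists_mem_notMem_of_card_lt_card
    (show ({u, v} : Finset Ω).card < (Finset.univ : Finset Ω).card by
      rw [Finset.card_univ]; exact lt_of_le_of_lt Finset.card_le_two (by omega))
  simp only [Finset.mem_insert, Finset.mem_singleton, not_or] at hz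
  exact ⟨z, hz⟩

theorem eq_of_stabilizer_eq {Ω : Type*} [Fintype Ω] [DecidableEq Ω] (h3 : 3 ≤ Fintype.card Ω) {u v : Ω}
    (h : ∀ g : Perm Ω, g u = u ↔ g v = v) : u = v := by
  by_contra huv
  obtain ⟨z, hz1, hz2⟩ := exists_third h3 u v
  have := (h (swap v z)).mp (Equiv.swap_apply_of_ne_of_ne huv hz1.symm)
  rw [Equiv.swap_apply_left] at this
  exact hz2 this

/-- Automorphisms of the symmetric groups of degree at least three and not six are inner. -/
theorem exists_inner {Ω : Type*} [Fintype Ω] [DecidableEq Ω] (h3 : 3 ≤ Fintype.card Ω)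
    (h6 : Fintype.card Ω ≠ 6) (θ : Perm Ω ≃* Perm Ω) : ∃ π : Perm Ω, ∀ g, θ g = π * g * π⁻¹ := by
  classical
  have hex : ∀ x : Ω, ∃ y : Ω, ∀ g, θ g x = x ↔ g y = y := by
    intro x
    have hidx : ((MulAction.stabilizer (Perm Ω) x).comap θ.toMonoidHom).index = Fintype.card Ω := by
      rw [Subgroup.index_comap_of_surjective _ θ.surjective, MulAction.index_stabilizer_of_transitive,
        Nat.card_eq_fintype_card]
    obtain ⟨y, hy⟩ := ClMax99.eq_stabilizer_of_index_eq h6 hidx
    exact ⟨y, fun g => SetLike.ext_iff.mp hy g⟩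
  choose f hf using hex
  have hinj : Function.Injective f := fun x x' hxx' => eq_of_stabilizer_eq h3 fun g => by
    obtain ⟨g', rfl⟩ := θ.surjective g
    rw [hf x, hf x', hxx']
  let φ : Perm Ω := Equiv.ofBijective f ⟨hinj, Finite.injective_iff_surjective.1 hinj⟩
  have hcomm : ∀ g x, f (θ g x) = g (f x) := by
    intro g x
    refine eq_of_stabilizer_eq h3 fun h => ?_
    rw [← hf (θ g x) h]
    have h2 : (g⁻¹ * h * g) (f x) = f x ↔ h (g (f x)) = g (f x) := by
      rw [Perm.mul_apply, Perm.mul_apply, Perm.inv_eq_iff_eq, eq_comm]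
    rw [← h2, ← hf x (g⁻¹ * h * g), map_mul, map_mul, map_inv, Perm.mul_apply, Perm.mul_apply,
      Perm.inv_eq_iff_eq, eq_comm]
  refine ⟨φ⁻¹, fun g => Equiv.ext fun x => ?_⟩
  rw [inv_inv, Perm.mul_apply, Perm.mul_apply, Perm.eq_inv_iff_eq]
  exact hcomm g x

theorem center_perm {Ω : Type*} [Fintype Ω] [DecidableEq Ω] (h3 : 3 ≤ Fintype.card Ω) {u : Perm Ω}
    (h : ∀ v, Commute u v) : u = 1 := by
  refine Equiv.ext fun x => ?_
  by_contra hx
  rw [Perm.one_apply] at hx
  obtain ⟨z, hz1, hz2⟩ := exists_third h3 x (u x)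
  have := DFunLike.congr_fun (h (swap x z)).eq x
  rw [Perm.mul_apply, Perm.mul_apply, Equiv.swap_apply_left,
    Equiv.swap_apply_of_ne_of_ne hx hz2.symm] at this
  exact hz1 (u.injective this)

end Cfsg.Agent.H25.M23
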