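import Cfsg.Agent.H25.M23.Local
import Cfsg.Agent.H25.M23.Recog

/-!
Type M(23): the normaliser of a subgroup of prime order as the product of the symmetric group generated
by the fixed transpositions and a complement commuting with it.
-/

set_option autoImplicit false
set_option linter.unusedSectionVars false

namespace Cfsg.Agent.H25.M23

open Cfsg.Agent.TT95 Equiv

variable {G : Type*} [Group G] [Finite G] {D : Set G}

/-- Orbit and stabiliser for conjugation. -/
theorem card_orbit (H : Subgroup G) (a : G) (O : Set G) (h1 : ∀ g ∈ H, g * a * g⁻¹ ∈ O)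
    (h2 : ∀ x ∈ O, ∃ g ∈ H, g * a * g⁻¹ = x) :
    Nat.card H = O.ncard * Nat.card ↥(H ⊓ Subgroup.centralizer ({a} : Set G)) := by
  choose s hs hsa using fun x : O => h2 x x.2
  rw [← Nat.card_coe_set_eq, ← Nat.card_prod]
  refine (Nat.card_congr (Equiv.ofBijective
    (fun q : O × ↥(H ⊓ Subgroup.centralizer ({a} : Set G)) =>
      (⟨s q.1 * (q.2 : G), mul_mem (hs q.1) q.2.2.1⟩ : H)) ⟨?_, ?_⟩)).symm
  · rintro ⟨x, u⟩ ⟨y, v⟩ e
    have e' : s x * (u : G) = s y * (v : G) := congrArg Subtype.val e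
    have hfix : ∀ (z : G) (w : ↥(H ⊓ Subgroup.centralizer ({a} : Set G))),
        (z * (w : G)) * a * (z * (w : G))⁻¹ = z * a * z⁻¹ := fun z w => by
      have hw : (w : G) * a = a * (w : G) := Subgroup.mem_centralizer_singleton_iff.mp w.2.2
      rw [mul_inv_rev, mul_assoc z, hw]
      group
    have exy : x = y := by
      apply Subtype.ext
      rw [← hsa x, ← hsa y, ← hfix (s x) u, ← hfix (s y) v, e']
    subst exy
    exact Prod.ext rfl (Subtype.ext (mul_left_cancel e'))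
  · intro g
    obtain ⟨x, hx⟩ : ∃ x : O, (x : G) = (g : G) * a * (g : G)⁻¹ := ⟨⟨_, h1 g g.2⟩, rfl⟩
    refine ⟨⟨x, (s x)⁻¹ * g, mul_mem (H.inv_mem (hs x)) g.2, ?_⟩, Subtype.ext (mul_inv_cancel_left _ _)⟩
    refine Subgroup.mem_centralizer_singleton_iff.mpr ?_
    have h := (hsa x).trans hx
    calc (s x)⁻¹ * (g : G) * a = (s x)⁻¹ * ((g : G) * a * (g : G)⁻¹) * g := by group
      _ = (s x)⁻¹ * (s x * a * (s x)⁻¹) * g := by rw [h]
      _ = a * ((s x)⁻¹ * g) := by group

variable (hD : TTSet D)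

include hD

/-- A chain of transpositions in `D` and the homomorphism it defines. -/
theorem chain_hom {n : ℕ} (hn : n = 2 ∨ 4 ≤ n) (t : Fin n → G) (ht : ∀ i, t i ∈ D)
    (hadj : ∀ i j : Fin n, (i : ℕ) + 1 = j → ¬ Commute (t i) (t j))
    (hcomm : ∀ i j : Fin n, (i : ℕ) + 1 < j → Commute (t i) (t j)) :
    ∃ f : Perm (Fin (n + 1)) →* G, Function.Injective f ∧ f.range = Subgroup.closure (Set.range t) ∧
      ∀ i : Fin n, f (swap i.castSucc i.succ) = t i :=
  exists_chain_hom hn t (fun i => sq hD (ht i)) (fun i j h => braid hD (ht i) (ht j) (hadj i j h)) hcomm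
    ⟨⟨0, by omega⟩, ⟨1, by omega⟩, hadj _ _ rfl⟩

/-- A transitive chain inside the fixed transpositions splits the normaliser. -/
theorem factor {p w c k m n : ℕ} [hp : Fact p.Prime] {X : Subgroup G} (hX : Nat.card X = p)
    (hn : n = 2 ∨ 4 ≤ n) (hn6 : n + 1 ≠ 6) (t : Fin n → G) (ht : ∀ i, t i ∈ fx D X)
    (hadj : ∀ i j : Fin n, (i : ℕ) + 1 = j → ¬ Commute (t i) (t j))
    (hcomm : ∀ i j : Fin n, (i : ℕ) + 1 < j → Commute (t i) (t j))
    {a : G} (ha : a ∈ fx D X)
    (hgen : ∀ x ∈ fx D X, x ∈ Subgroup.closure (Set.range t))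
    (htrans : ∀ x ∈ fx D X, ∃ g ∈ Subgroup.closure (Set.range t), g * a * g⁻¹ = x)
    (hA : AtFixed D p w c k X a)
    (hC : (fx D X).ncard * (2 * c) = (n + 1).factorial * p)
    (hN : (fx D X).ncard * (2 * k) = (n + 1).factorial * m) :
    Nat.card (Subgroup.centralizer (X : Set G)) = (n + 1).factorial * p ∧
    Nat.card (Subgroup.normalizer (X : Set G)) = (n + 1).factorial * m ∧
    ∃ F : Subgroup G, Nat.card ↥F = m ∧ X ≤ F ∧ F ⊓ Subgroup.centralizer (X : Set G) = X ∧
      F ⊓ Subgroup.closure (fx D X) = ⊥ ∧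
      (∀ x ∈ F, ∀ y ∈ Subgroup.closure (fx D X), x * y = y * x) ∧
      F ⊔ Subgroup.closure (fx D X) = Subgroup.normalizer (X : Set G) ∧
      Nonempty (↥(Subgroup.closure (fx D X)) ≃* Perm (Fin (n + 1))) := by
  obtain ⟨f, hfinj, hfr, -⟩ := chain_hom hD hn t (fun i => (ht i).1) hadj hcomm
  set S := Subgroup.closure (fx D X) with hS
  have hSt : Subgroup.closure (Set.range t) = S :=
    le_antisymm (Subgroup.closure_mono (by rintro _ ⟨i, rfl⟩; exact ht i))
      ((Subgroup.closure_le _).2 hgen)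
  rw [hSt] at hfr
  let e : Perm (Fin (n + 1)) ≃* S := (MonoidHom.ofInjective hfinj).trans (MulEquiv.subgroupCongr hfr)
  set C := Subgroup.centralizer (X : Set G) with hCdef
  set N := Subgroup.normalizer (X : Set G) with hNdef
  have hSC : S ≤ C := (Subgroup.closure_le _).2 fun x hx => hx.2
  have hCN : C ≤ N := Subgroup.centralizer_le_normalizer _
  have hcardS : Nat.card S = (n + 1).factorial := by
    rw [← Nat.card_congr e.toEquiv, Nat.card_perm, Nat.card_fin]
  have htr : ∀ H : Subgroup G, S ≤ H → ∀ x ∈ fx D X, ∃ g ∈ H, g * a * g⁻¹ = x := fun H hH x hx => by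
    obtain ⟨g, hg, e⟩ := htrans x hx
    exact ⟨g, hH (hSt ▸ hg), e⟩
  have hcardC : Nat.card C = (n + 1).factorial * p := by
    rw [card_orbit C a (fx D X) (fun g hg => fx_conj_mem hD hX (hCN hg) ha) (htr C hSC), hA.cent, hC]
  have hcardN : Nat.card N = (n + 1).factorial * m := by
    rw [card_orbit N a (fx D X) (fun g hg => fx_conj_mem hD hX hg ha) (htr N (hSC.trans hCN)), hA.norm, hN]
  refine ⟨hcardC, hcardN, N ⊓ Subgroup.centralizer (S : Set G), ?_⟩
  set K := N ⊓ Subgroup.centralizer (S : Set G) with hK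
  have hKS : K ⊓ S = ⊥ := by
    rw [Subgroup.eq_bot_iff_forall]
    rintro x ⟨⟨-, hx⟩, hxS⟩
    have h1 : e.symm ⟨x, hxS⟩ = 1 := center_perm (by rw [Fintype.card_fin]; omega) fun v =>
      e.injective (by
        rw [map_mul, map_mul, e.apply_symm_apply]
        exact Subtype.ext (Subgroup.mem_centralizer_iff.mp hx _ (e v).2).symm)
    exact congrArg Subtype.val (e.symm.injective (h1.trans (map_one e.symm).symm))
  have hcommK : ∀ x ∈ K, ∀ y ∈ S, x * y = y * x := fun x hx y hy =>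
    (Subgroup.mem_centralizer_iff.mp hx.2 y hy).symm
  have hSnorm : ∀ g ∈ N, ∀ y ∈ S, g * y * g⁻¹ ∈ S := by
    intro g hg y hy
    have hmap : S.map (MulAut.conj g).toMonoidHom ≤ S := by
      rw [hS, MonoidHom.map_closure]
      refine Subgroup.closure_mono ?_
      rintro _ ⟨x, hx, rfl⟩
      exact fx_conj_mem hD hX hg hx
    exact hmap ⟨y, hy, rfl⟩
  -- every element of the normaliser acts on `S` as one of its members
  have hdec : ∀ g ∈ N, ∃ s ∈ S, s⁻¹ * g ∈ K := by
    intro g hg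
    let θ : S ≃* S :=
      { toFun := fun y => ⟨g * y * g⁻¹, hSnorm g hg y y.2⟩
        invFun := fun y => ⟨g⁻¹ * y * g, by simpa using hSnorm g⁻¹ (inv_mem hg) y y.2⟩
        left_inv := fun y => Subtype.ext (by show g⁻¹ * (g * y * g⁻¹) * g = y; group)
        right_inv := fun y => Subtype.ext (by show g * (g⁻¹ * y * g) * g⁻¹ = y; group)
        map_mul' := fun y z => Subtype.ext (by
          show g * (y * z : G) * g⁻¹ = (g * y * g⁻¹) * (g * z * g⁻¹); group) }
    obtain ⟨π, hπ⟩ := exists_inner (by rw [Fintype.card_fin]; omega) (by rw [Fintype.card_fin]; exact hn6)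
      ((e.trans θ).trans e.symm)
    refine ⟨e π, (e π).2, mul_mem (N.inv_mem (hCN (hSC (e π).2))) hg, ?_⟩
    refine Subgroup.mem_centralizer_iff.mpr fun y hy => ?_
    have h := congrArg (fun u => ((e u : S) : G)) (hπ (e.symm ⟨y, hy⟩))
    simp only [MulEquiv.trans_apply, MulEquiv.apply_symm_apply, map_mul, map_inv, Subgroup.coe_mul,
      InvMemClass.coe_inv] at h
    change g * y * g⁻¹ = _ at h
    have hy' : y = g⁻¹ * ((e π : G) * y * (e π : G)⁻¹) * g := by rw [← h]; group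
    calc y * ((e π : G)⁻¹ * g) = (e π : G)⁻¹ * ((e π : G) * y * (e π : G)⁻¹) * g := by group
      _ = (e π : G)⁻¹ * g * (g⁻¹ * ((e π : G) * y * (e π : G)⁻¹) * g) := by group
      _ = (e π : G)⁻¹ * g * y := by rw [← hy']
  have hsup : K ⊔ S = N := le_antisymm (sup_le inf_le_left (hSC.trans hCN)) fun g hg => by
    obtain ⟨s, hs, hk⟩ := hdec g hg
    rw [← mul_inv_cancel_left s g]
    exact mul_mem (Subgroup.mem_sup_right hs) (Subgroup.mem_sup_left hk)
  have hsplit : ∀ H : Subgroup G, S ≤ H → H ≤ N → Nat.card ↥(K ⊓ H) * Nat.card S = Nat.card H := by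
    intro H hSH hHN
    rw [← Nat.card_prod]
    refine Nat.card_congr (Equiv.ofBijective
      (fun q : ↥(K ⊓ H) × S => (⟨q.1 * q.2, mul_mem q.1.2.2 (hSH q.2.2)⟩ : H)) ⟨?_, ?_⟩)
    · rintro ⟨u, v⟩ ⟨u', v'⟩ h
      have h' : (u : G) * v = u' * v' := congrArg Subtype.val h
      have h1 : (u' : G)⁻¹ * u = v' * (v : G)⁻¹ := by
        rw [inv_mul_eq_iff_eq_mul, ← mul_assoc, ← h', mul_inv_cancel_right]
      have h2 : (u' : G)⁻¹ * u = 1 := by
        rw [← Subgroup.mem_bot, ← hKS]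
        exact ⟨mul_mem (K.inv_mem u'.2.1) u.2.1, h1 ▸ mul_mem v'.2 (S.inv_mem v.2)⟩
      have e1 : u = u' := Subtype.ext (inv_mul_eq_one.mp h2).symm
      subst e1
      exact Prod.ext rfl (Subtype.ext (mul_left_cancel h'))
    · intro g
      obtain ⟨s, hs, hk⟩ := hdec g (hHN g.2)
      refine ⟨(⟨s⁻¹ * g, hk, mul_mem (H.inv_mem (hSH hs)) g.2⟩, ⟨s, hs⟩), Subtype.ext ?_⟩
      show s⁻¹ * g * s = g
      rw [hcommK _ hk s hs, mul_inv_cancel_left]
  have hKcard : Nat.card K = m := by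
    have h := hsplit N (hSC.trans hCN) le_rfl
    rw [inf_eq_left.mpr (inf_le_left : K ≤ N), hcardS, hcardN, mul_comm] at h
    exact Nat.eq_of_mul_eq_mul_left (n + 1).factorial_pos h
  have hXK : X ≤ K := fun x hx => ⟨Subgroup.le_normalizer hx,
    Subgroup.mem_centralizer_iff.mpr fun y hy => (Subgroup.mem_centralizer_iff.mp (hSC hy) x hx).symm⟩
  have hXC : X ≤ C := by
    haveI := isCyclic_of_prime_card hX
    exact fun x hx => Subgroup.mem_centralizer_iff.mpr fun y hy => congrArg Subtype.val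
      ((IsCyclic.commutative (α := X)).is_comm.comm ⟨y, hy⟩ ⟨x, hx⟩)
  refine ⟨hKcard, hXK, ?_, hKS, hcommK, hsup, ⟨e.symm⟩⟩
  refine (Subgroup.eq_of_le_of_card_ge (le_inf hXK hXC) ?_).symm
  have h := hsplit C hSC hCN
  rw [hcardS, hcardC, mul_comm] at h
  rw [hX, Nat.eq_of_mul_eq_mul_left (n + 1).factorial_pos h]

end Cfsg.Agent.H25.M23
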