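import Cfsg.Agent.H25.M23.Setup
import Mathlib.Combinatorics.Enumerative.DoubleCounting

/-!
Closed sets of transpositions whose commuting graph is the Petersen graph, and spreading of orbits.
-/

set_option autoImplicit false
set_option linter.unusedSectionVars false

namespace Cfsg.Agent.H25.M23

open Cfsg.Agent.TT95

variable {G : Type*} [Group G] [Finite G] {D : Set G}

/-- The conjugates of `a` under `H`. -/
def orb (H : Subgroup G) (a : G) : Set G := {x | ∃ g ∈ H, g * a * g⁻¹ = x}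

theorem self_mem_orb (H : Subgroup G) (a : G) : a ∈ orb H a := ⟨1, one_mem _, by group⟩

theorem orb_subset {H : Subgroup G} {a : G} (ha : a ∈ H) {x : G} (hx : x ∈ orb H a) : x ∈ H := by
  obtain ⟨g, hg, rfl⟩ := hx
  exact mul_mem (mul_mem hg ha) (inv_mem hg)

theorem orb_conj {H : Subgroup G} {a g x : G} (hg : g ∈ H) (hx : x ∈ orb H a) : g * x * g⁻¹ ∈ orb H a := by
  obtain ⟨h, hh, rfl⟩ := hx
  exact ⟨g * h, mul_mem hg hh, by group⟩

theorem orb_trans {H : Subgroup G} {a b x : G} (hb : b ∈ orb H a) (hx : x ∈ orb H b) : x ∈ orb H a := by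
  obtain ⟨g, hg, rfl⟩ := hx
  exact orb_conj hg hb

variable (hD : TTSet D)

include hD

theorem orb_step {H : Subgroup G} {a b c : G} (hb : b ∈ orb H a) (hbD : b ∈ D) (hcD : c ∈ D)
    (hbc : ¬ Commute b c) (hbH : b ∈ H) (hcH : c ∈ H) : c ∈ orb H a := by
  rw [← exists_conj_of_not_commute hD hbD hcD hbc]
  exact orb_conj (mul_mem hbH hcH) hb

theorem third_mem_orb {H : Subgroup G} {a b c : G} (hb : b ∈ orb H a) (hcD : c ∈ D) (hcH : c ∈ H) :
    c * b * c ∈ orb H a := by
  have h := orb_conj hcH hb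
  rwa [inv_eq hD hcD] at h

theorem closed_conj {P : Set G} (hP : Closed D P) {g x : G} (hg : g ∈ Subgroup.closure P) (hx : x ∈ P) :
    g * x * g⁻¹ ∈ P := by
  have hfwd : ∀ y ∈ Subgroup.closure P, ∀ z ∈ P, y * z * y⁻¹ ∈ P ∧ y⁻¹ * z * y ∈ P := by
    intro y hy
    induction hy using Subgroup.closure_induction with
    | mem u hu =>
      intro z hz
      rw [inv_eq hD (hP.1 hu)]
      exact ⟨hP.2 u hu z hz, hP.2 u hu z hz⟩
    | one => intro z hz; simpa using hz
    | mul u v _ _ ihu ihv =>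
      intro z hz
      refine ⟨?_, ?_⟩
      · rw [show u * v * z * (u * v)⁻¹ = u * (v * z * v⁻¹) * u⁻¹ by group]
        exact (ihu _ (ihv z hz).1).1
      · rw [show (u * v)⁻¹ * z * (u * v) = v⁻¹ * (u⁻¹ * z * u) * v by group]
        exact (ihv _ (ihu z hz).2).2
    | inv u _ ih =>
      intro z hz
      rw [inv_inv]
      exact (ih z hz).symm
  exact (hfwd g hg x hx).1

/-- If any two noncommuting members share a neighbour, the orbit spreads from the neighbours of `a`. -/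
theorem subset_orb {F : Set G} (hF : Closed D F) {H : Subgroup G} (hH : H ≤ Subgroup.closure F) {a : G}
    (ha : a ∈ F) (hnb : nb D a ∩ F ⊆ orb H a)
    (hcom : ∀ b ∈ F, b ∈ far D a → (common D a b ∩ F).Nonempty) : F ⊆ orb H a := by
  intro v hv
  rcases mem_nb_or_far (a := a) (hF.1 hv) with rfl | h | h
  · exact self_mem_orb H v
  · exact hnb ⟨h, hv⟩
  · obtain ⟨x, ⟨hxa, hxv⟩, hxF⟩ := hcom v hv h
    obtain ⟨g, hg, rfl⟩ := hnb ⟨hxa, hxF⟩
    have h1 : g⁻¹ * v * g ∈ nb D a ∩ F := by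
      refine ⟨?_, by simpa using closed_conj hD hF (inv_mem (hH hg)) hv⟩
      rw [← nb_conj hD g, show g * (g⁻¹ * v * g) * g⁻¹ = v by group]
      exact mem_nb_comm (hF.1 hv) hxv
    have h2 := orb_conj hg (hnb h1)
    rwa [show g * (g⁻¹ * v * g) * g⁻¹ = v by group] at h2

/-- The commuting graph of `P` is the Petersen graph. -/
structure Pet (D P : Set G) : Prop where
  closed : Closed D P
  deg : ∀ x ∈ P, (nb D x ∩ P).ncard = 3
  edge : ∀ x ∈ P, ∀ y ∈ nb D x ∩ P, common D x y ∩ P = ∅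
  far : ∀ x ∈ P, ∀ y ∈ P, y ∈ far D x → (common D x y ∩ P).ncard = 1

omit hD in
theorem Pet.unique {P : Set G} (hP : Pet D P) {x y : G} (hx : x ∈ P) (hy : y ∈ P) (hxy : y ∈ TT95.far D x) :
    ∃ z ∈ common D x y ∩ P, ∀ z' ∈ common D x y ∩ P, z' = z := by
  obtain ⟨z, hz⟩ := Set.ncard_eq_one.mp (hP.far x hx y hy hxy)
  exact ⟨z, hz ▸ rfl, fun z' hz' => by rw [hz] at hz'; exact hz'⟩

omit hD in
theorem Pet.nbrs_far {P : Set G} (hP : Pet D P) {x y z : G} (hx : x ∈ P) (hy : y ∈ nb D x ∩ P)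
    (hz : z ∈ nb D x ∩ P) (hne : z ≠ y) : z ∈ TT95.far D y := by
  refine ⟨hz.1.1, fun h => ?_⟩
  have : z ∈ common D x y ∩ P := ⟨⟨hz.1, hz.1.1, hne, h⟩, hz.2⟩
  rw [hP.edge x hx y hy] at this
  exact this

/-- A four-term chain in the Petersen graph and its orbit. -/
theorem Pet.span {P : Set G} (hP : Pet D P) {a b u z : G} (ha : a ∈ P) (hb : b ∈ P) (hab : b ∈ TT95.far D a)
    (hz : z ∈ common D a b ∩ P) (hu : u ∈ nb D a ∩ P) (huz : u ≠ z) :
    (¬ Commute b u ∧ ¬ Commute u z ∧ Commute a u ∧ Commute a z ∧ Commute b z) ∧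
      ∀ H : Subgroup G, H ≤ Subgroup.closure P → a ∈ H → b ∈ H → u ∈ H → z ∈ H → P ⊆ orb H a := by
  have hbu : ¬ Commute b u := fun h => by
    obtain ⟨z₀, -, huniq⟩ := hP.unique ha hb hab
    exact huz ((huniq u ⟨⟨hu.1, hu.1.1, fun e => hab.2 (e ▸ hu.1.2.2), h⟩, hu.2⟩).trans (huniq z hz).symm)
  have hfuz : z ∈ TT95.far D u := hP.nbrs_far ha hu ⟨hz.1.1, hz.2⟩ huz.symm
  refine ⟨⟨hbu, hfuz.2, hu.1.2.2, hz.1.1.2.2, hz.1.2.2.2⟩, fun H hH haH hbH huH hzH => ?_⟩
  have hbO : b ∈ orb H a := orb_step hD (self_mem_orb H a) (hP.closed.1 ha) hab.1 hab.2 haH hbH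
  have huO : u ∈ orb H a := orb_step hD hbO hab.1 hu.1.1 hbu hbH huH
  have hzO : z ∈ orb H a := orb_step hD huO hu.1.1 hfuz.1 hfuz.2 huH hzH
  have hwO : z * u * z ∈ orb H a := third_mem_orb hD huO hfuz.1 hzH
  have hw : z * u * z ∈ nb D a ∩ P := by
    refine ⟨?_, hP.closed.2 z hz.2 u hu.2⟩
    have h := (nb_conj hD z a u).2 hu.1
    rwa [inv_eq hD hfuz.1, show z * a * z = a by
      rw [← hz.1.1.2.2.eq, mul_assoc, sq hD hfuz.1, mul_one]] at h
  have h1 : z * u * z ≠ u := fun e => hfuz.2 (by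
    show u * z = z * u
    calc u * z = (z * u * z) * z := by rw [e]
      _ = z * u * (z * z) := by simp only [mul_assoc]
      _ = z * u := by rw [sq hD hfuz.1, mul_one])
  have h2 : z * u * z ≠ z := fun e => huz (by
    have := congrArg (fun v => z * v * z) e
    simp only [← mul_assoc, sq hD hfuz.1, one_mul] at this
    rwa [mul_assoc, sq hD hfuz.1, mul_one] at this)
  have hsub : ({z, u, z * u * z} : Set G) ⊆ nb D a ∩ P := by
    intro v hv
    rcases hv with rfl | rfl | rfl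
    · exact ⟨hz.1.1, hz.2⟩
    · exact hu
    · exact hw
  have hnb : ({z, u, z * u * z} : Set G) = nb D a ∩ P := by
    refine Set.eq_of_subset_of_ncard_le hsub ?_ (Set.toFinite _)
    rw [hP.deg a ha, Set.ncard_eq_three.mpr ⟨z, u, z * u * z, huz.symm, h2.symm, h1.symm, rfl⟩]
  refine subset_orb hD hP.closed hH ha (hnb ▸ ?_) fun v hv hav => ?_
  · intro v hv
    rcases hv with rfl | rfl | rfl
    · exact hzO
    · exact huO
    · exact hwO
  · obtain ⟨w, hw, -⟩ := hP.unique ha hv hav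
    exact ⟨w, hw⟩

/-- A set where `x` commutes with none has even size if `x` permutes it. -/
theorem even_of_conj {S : Set G} {x : G} (hx : x ∈ D) (hS : ∀ y ∈ S, x * y * x ∈ S)
    (hfix : ∀ y ∈ S, ¬ Commute x y) : Even S.ncard := by
  haveI := Fact.mk Nat.prime_two
  have hX : Nat.card (Subgroup.zpowers x) = 2 := by rw [Nat.card_zpowers, hD.1.1 x hx]
  have h := ncard_modEq hX (S := S) fun g hg y hy => by
    rcases (Nat.card_eq_two_iff' (1 : Subgroup.zpowers x)).mp hX |>.unique with hu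
    by_cases h1 : g = 1
    · rw [h1]; simpa using hy
    · have : (⟨g, hg⟩ : Subgroup.zpowers x) = ⟨x, Subgroup.mem_zpowers x⟩ :=
        hu (fun e => h1 (congrArg Subtype.val e)) (fun e => ne_one hD hx (congrArg Subtype.val e))
      rw [show g = x from congrArg Subtype.val this, inv_eq hD hx]
      exact hS y hy
  have he : S ∩ (Subgroup.centralizer (Subgroup.zpowers x : Set G) : Set G) = ∅ := by
    rw [Set.eq_empty_iff_forall_notMem]
    rintro y ⟨hy, hc⟩
    exact hfix y hy (Subgroup.mem_centralizer_iff.mp hc x (Subgroup.mem_zpowers x))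
  rw [he, Set.ncard_empty] at h
  exact Nat.even_iff.mpr h

end Cfsg.Agent.H25.M23
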