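import Cfsg.Agent.H25.M23.Factor
import Cfsg.Agent.H25.M23.Petersen

/-!
Type M(23): subgroups of prime order fix transpositions; their conjugacy; counting fixed transpositions.
-/

set_option autoImplicit false
set_option linter.unusedSectionVars false

namespace Cfsg.Agent.H25.M23

open Cfsg.Agent.TT95 Equiv

variable {G : Type*} [Group G] [Finite G] {D : Set G} {d : G} {p w c k : ℕ} [hp : Fact p.Prime]

theorem exists_fx (hG : Cfg23 D d) {X : Subgroup G} (hX : Nat.card X = p) (h : ¬ p ∣ 31671) :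
    ∃ a, a ∈ fx D X := by
  by_contra hne
  push Not at hne
  have h1 := fx_modEq hG.lay.tt hX
  rw [Set.eq_empty_iff_forall_notMem.mpr hne, Set.ncard_empty, hG.lay.card_D] at h1
  exact h (Nat.modEq_zero_iff_dvd.mp h1)

theorem common_nb_fx_modEq (hD : TTSet D) {X : Subgroup G} (hX : Nat.card X = p) {x y a : G} (hx : x ∈ fx D X)
    (hy : y ∈ fx D X) (ha : a ∈ fx D X) :
    (common D x y ∩ nb D a).ncard ≡ (common D x y ∩ nb D a ∩ fx D X).ncard [MOD p] := by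
  refine (ncard_modEq hX fun g hg z hz => ?_).trans (congrArg (fun T : Set G => T.ncard % p) ?_)
  · have hfix : ∀ u ∈ fx D X, ∀ v ∈ nb D u, g * v * g⁻¹ ∈ nb D u := fun u hu v hv => by
      have h := (nb_conj hD g u v).2 hv
      rwa [((mem_fx.mp hu).2 g hg).eq, mul_inv_cancel_right] at h
    exact ⟨⟨hfix x hx z hz.1.1, hfix y hy z hz.1.2⟩, hfix a ha z hz.2⟩
  · ext z; exact ⟨fun h => ⟨h.1, h.1.2.1, h.2⟩, fun h => ⟨h.1, h.2.2⟩⟩

variable (hG : Cfg23 D d) [Gen D] (hL : Local22 (locSet D d) p w c k) (hp2 : p ≠ 2)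

include hG hL hp2

/-- All subgroups of order `p` are conjugate. -/
theorem conj_all (h : ¬ p ∣ 31671) (X Y : Subgroup G) (hX : Nat.card X = p) (hY : Nat.card Y = p) :
    ∃ g : G, X.map (MulAut.conj g).toMonoidHom = Y := by
  obtain ⟨a, ha⟩ := exists_fx hG hX h
  obtain ⟨b, hb⟩ := exists_fx hG hY h
  obtain ⟨g, hg⟩ := hG.lay.one b hb.1 a ha.1
  have hY' : Nat.card (Y.map (MulAut.conj g).toMonoidHom) = p := by
    rw [Subgroup.card_map_of_injective (MulAut.conj g).injective, hY]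
  have hle : Y.map (MulAut.conj g).toMonoidHom ≤ Subgroup.centralizer ({a} : Set G) := by
    rintro _ ⟨y, hy, rfl⟩
    refine Subgroup.mem_centralizer_singleton_iff.mpr ?_
    rw [← hg]
    exact ((Commute.conj_iff g).2 ((mem_fx.mp hb).2 y hy)).eq
  obtain ⟨u, -, hu⟩ := (atFixed hG hL hp2 hX ha).conj _ hY' hle
  refine ⟨g⁻¹ * u, ?_⟩
  ext z
  constructor
  · rintro ⟨x, hx, rfl⟩
    have h1 : u * x * u⁻¹ ∈ Y.map (MulAut.conj g).toMonoidHom := hu ▸ ⟨x, hx, rfl⟩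
    obtain ⟨y, hy, hye⟩ := h1
    have h2 : g * y * g⁻¹ = u * x * u⁻¹ := hye
    show g⁻¹ * u * x * (g⁻¹ * u)⁻¹ ∈ Y
    rw [show g⁻¹ * u * x * (g⁻¹ * u)⁻¹ = g⁻¹ * (u * x * u⁻¹) * g by group, ← h2,
      show g⁻¹ * (g * y * g⁻¹) * g = y by group]
    exact hy
  · intro hz
    have h1 : g * z * g⁻¹ ∈ X.map (MulAut.conj u).toMonoidHom := by rw [hu]; exact ⟨z, hz, rfl⟩
    obtain ⟨x, hx, hxe⟩ := h1
    have h2 : u * x * u⁻¹ = g * z * g⁻¹ := hxe
    refine ⟨x, hx, ?_⟩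
    show g⁻¹ * u * x * (g⁻¹ * u)⁻¹ = z
    rw [show g⁻¹ * u * x * (g⁻¹ * u)⁻¹ = g⁻¹ * (u * x * u⁻¹) * g by group, h2]
    group

omit hp2 hL hG hp in
/-- The number of transpositions in the symmetric group generated by a chain. -/
theorem ncard_fx_chain (hD : TTSet D) {n : ℕ} (hn : n = 2 ∨ 4 ≤ n) (t : Fin n → G) {X : Subgroup G}
    (ht : ∀ i, t i ∈ fx D X) (hadj : ∀ i j : Fin n, (i : ℕ) + 1 = j → ¬ Commute (t i) (t j))
    (hcomm : ∀ i j : Fin n, (i : ℕ) + 1 < j → Commute (t i) (t j))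
    (htrans : ∀ x ∈ fx D X, x ∈ orb (Subgroup.closure (Set.range t)) (t ⟨0, by omega⟩)) :
    (fx D X).ncard * (2 * (n - 1).factorial) = (n + 1).factorial := by
  obtain ⟨f, hfinj, hfr, hft⟩ := chain_hom hD hn t (fun i => (ht i).1) hadj hcomm
  set s : Perm (Fin (n + 1)) := swap (⟨0, by omega⟩ : Fin n).castSucc (⟨0, by omega⟩ : Fin n).succ with hs
  have hO : fx D X = f '' {x | ∃ g, g * s * g⁻¹ = x} := by
    ext x
    constructor
    · intro hx
      obtain ⟨g, hg, rfl⟩ := htrans x hx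
      rw [← hfr] at hg
      obtain ⟨u, rfl⟩ := hg
      exact ⟨u * s * u⁻¹, ⟨u, rfl⟩, by rw [map_mul, map_mul, map_inv, hft]⟩
    · rintro ⟨_, ⟨u, rfl⟩, rfl⟩
      rw [map_mul, map_mul, map_inv, hft]
      have hu : f u ∈ Subgroup.closure (fx D X) :=
        Subgroup.closure_mono (show Set.range t ⊆ fx D X by rintro _ ⟨i, rfl⟩; exact ht i) (hfr.le ⟨u, rfl⟩)
      exact closed_conj hD (fx_closed hD rfl) hu (ht _)
  have hsw : s.IsSwap := ⟨_, _, (Fin.castSucc_lt_succ).ne, rfl⟩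
  have h := card_orbit (⊤ : Subgroup (Perm (Fin (n + 1)))) s {x | ∃ g, g * s * g⁻¹ = x}
    (fun g _ => ⟨g, rfl⟩) (fun x ⟨g, hg⟩ => ⟨g, trivial, hg⟩)
  rw [Subgroup.card_top, top_inf_eq, Nat.card_perm, Nat.card_fin, Equiv.Perm.nat_card_centralizer,
    hsw.isCycle.cycleType, Equiv.Perm.card_support_eq_two.2 hsw, Fintype.card_fin] at h
  simp at h
  rw [hO, Set.ncard_image_of_injective _ hfinj, h, show n - 1 = n + 1 - 2 by omega]
  ring_nf

end Cfsg.Agent.H25.M23
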