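import Cfsg.Agent.H25.M23.Setup

/-!
Type M(23): what the centraliser of a fixed transposition inherits from the local group of type M(22).
-/

set_option autoImplicit false
set_option linter.unusedSectionVars false

namespace Cfsg.Agent.H25.M23

open Cfsg.Agent.TT95

/-- The facts about subgroups of order `p` of a group of type M(22) that are used: they are conjugate,
each fixes `w` transpositions, has centraliser of order `c` and normaliser of order `n`. -/
structure Local22 {K : Type*} [Group K] (E : Set K) (p w c n : ℕ) : Prop where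
  fixed : ∀ Y : Subgroup K, Nat.card Y = p → (fx E Y).ncard = w
  cent : ∀ Y : Subgroup K, Nat.card Y = p → Nat.card (Subgroup.centralizer (Y : Set K)) = c
  norm : ∀ Y : Subgroup K, Nat.card Y = p → Nat.card (Subgroup.normalizer (Y : Set K)) = n
  conj : ∀ Y Z : Subgroup K, Nat.card Y = p → Nat.card Z = p →
    ∃ g : K, Y.map (MulAut.conj g).toMonoidHom = Z

variable {G : Type*} [Group G] [Finite G] {D : Set G} {d : G}

/-- The map to the local group. -/
theorem exists_local_hom (hG : Cfg23 D d) [Gen D] {a : G} (ha : a ∈ D) :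
    ∃ φ : Subgroup.centralizer ({a} : Set G) →* ModCenter (Subgroup.closure (nb D d)),
      Function.Surjective φ ∧
      (∀ g, φ g = 1 ↔ (g : G) = 1 ∨ (g : G) = a) ∧
      (∀ x (hx : x ∈ nb D a), φ ⟨x, Subgroup.mem_centralizer_singleton_iff.mpr hx.2.2.eq.symm⟩ ∈ locSet D d) ∧
      (∀ q ∈ locSet D d, ∃ x, ∃ hx : x ∈ nb D a,
        φ ⟨x, Subgroup.mem_centralizer_singleton_iff.mpr hx.2.2.eq.symm⟩ = q) ∧
      ∀ x (hx : x ∈ nb D a) y (hy : y ∈ nb D a),
        φ ⟨x, Subgroup.mem_centralizer_singleton_iff.mpr hx.2.2.eq.symm⟩ =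
          φ ⟨y, Subgroup.mem_centralizer_singleton_iff.mpr hy.2.2.eq.symm⟩ → x = y := by
  have hD := hG.lay.tt
  haveI := loc_finite hD d
  haveI := gen_loc hG
  obtain ⟨f, hf⟩ := hG.step.iso a ha
  obtain ⟨φ, hφ, -, hker⟩ := hf.exists_hom hD hG.loc.tt hG.loc.center
  have hC : Subgroup.centralizer ({a} : Set G) = Subgroup.closure (nb D a) := centralizer23 hG ha
  let ψ : Subgroup.centralizer ({a} : Set G) →* ModCenter (Subgroup.closure (nb D d)) :=
    φ.comp (Subgroup.inclusion hC.le)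
  have hψ : ∀ x (hx : x ∈ nb D a), ψ ⟨x, Subgroup.mem_centralizer_singleton_iff.mpr hx.2.2.eq.symm⟩ = f x :=
    fun x hx => hφ x hx
  refine ⟨ψ, ?_, fun g => ?_, fun x hx => by rw [hψ x hx]; exact hf.mem hx, fun q hq => ?_,
    fun x hx y hy e => by rw [hψ x hx, hψ y hy] at e; exact hf.inj hx hy e⟩
  · intro q
    have hq : q ∈ (⊤ : Subgroup _) := Subgroup.mem_top q
    rw [← Gen.gen (D := locSet D d)] at hq
    induction hq using Subgroup.closure_induction with
    | mem y hy =>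
      obtain ⟨x, hx, rfl⟩ := hf.surj hy
      exact ⟨⟨x, Subgroup.mem_centralizer_singleton_iff.mpr hx.2.2.eq.symm⟩, hψ x hx⟩
    | one => exact ⟨1, map_one _⟩
    | mul u v _ _ hu hv =>
      obtain ⟨g, rfl⟩ := hu; obtain ⟨h, rfl⟩ := hv
      exact ⟨g * h, map_mul _ _ _⟩
    | inv u _ hu =>
      obtain ⟨g, rfl⟩ := hu
      exact ⟨g⁻¹, map_inv _ _⟩
  · show φ (Subgroup.inclusion hC.le g) = 1 ↔ _
    rw [hker]
    show (∀ x ∈ nb D a, Commute (g : G) x) ↔ _
    refine ⟨fun h => hG.lay.kernel ha (Subgroup.mem_centralizer_singleton_iff.mp g.2) h, ?_⟩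
    rintro (e | e) x hx <;> rw [e]
    · exact Commute.one_left x
    · exact hx.2.2
  · obtain ⟨x, hx, rfl⟩ := hf.surj hq
    exact ⟨x, hx, hψ x hx⟩

/-- What a fixed transposition sees. -/
structure AtFixed (D : Set G) (p w c n : ℕ) (X : Subgroup G) (a : G) : Prop where
  fixed : (nb D a ∩ fx D X).ncard = w
  cent : Nat.card ↥(Subgroup.centralizer (X : Set G) ⊓ Subgroup.centralizer ({a} : Set G)) = 2 * c
  norm : Nat.card ↥(Subgroup.normalizer (X : Set G) ⊓ Subgroup.centralizer ({a} : Set G)) = 2 * n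
  conj : ∀ Y : Subgroup G, Nat.card Y = p → Y ≤ Subgroup.centralizer ({a} : Set G) →
    ∃ g : G, g * a * g⁻¹ = a ∧ X.map (MulAut.conj g).toMonoidHom = Y

variable {p w c n : ℕ} [hp : Fact p.Prime]

theorem atFixed (hG : Cfg23 D d) [Gen D] (hL : Local22 (locSet D d) p w c n) (hp2 : p ≠ 2)
    {X : Subgroup G} (hX : Nat.card X = p) {a : G} (ha : a ∈ fx D X) : AtFixed D p w c n X a := by
  have hD := hG.lay.tt
  obtain ⟨φ, hsurj, hker, hmem, honto, hinj⟩ := exists_local_hom hG ha.1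
  let H := Subgroup.centralizer ({a} : Set G)
  have haH : a ∈ H := Subgroup.mem_centralizer_singleton_iff.mpr rfl
  have hp3 : 3 ≤ p := by
    have := hp.out.two_le
    omega
  -- a subgroup of order `p` maps isomorphically
  have himg : ∀ Y : Subgroup G, Nat.card Y = p → Y ≤ H → Nat.card ((Y.subgroupOf H).map φ) = p := by
    intro Y hY hYH
    rw [← hY, ← Nat.card_congr (Subgroup.subgroupOfEquivOfLe hYH).toEquiv]
    refine (Nat.card_congr (Equiv.ofBijective (fun y : Y.subgroupOf H =>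
      (⟨φ y, Subgroup.mem_map_of_mem φ y.2⟩ : (Y.subgroupOf H).map φ)) ⟨fun u v e => ?_, ?_⟩)).symm
    · have e' : φ ((u : H)⁻¹ * v) = 1 := by
        rw [map_mul, map_inv, show φ u = φ v from congrArg Subtype.val e, inv_mul_cancel]
      rcases (hker _).mp e' with h | h
      · exact Subtype.ext (inv_mul_eq_one.mp (Subtype.ext h))
      · exfalso
        have haY : a ∈ Y := h ▸ mul_mem (inv_mem u.2) v.2
        have h2 : orderOf a ∣ p := hY ▸ Subgroup.orderOf_dvd_natCard Y haY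
        rw [hD.1.1 a ha.1, Nat.prime_dvd_prime_iff_eq Nat.prime_two hp.out] at h2
        exact hp2 h2.symm
    · rintro ⟨_, y, hy, rfl⟩
      exact ⟨⟨y, hy⟩, rfl⟩
  -- equal images mean equal subgroups
  have heq : ∀ Y Z : Subgroup G, Nat.card Y = p → Nat.card Z = p → Y ≤ H → Z ≤ H →
      (Y.subgroupOf H).map φ = (Z.subgroupOf H).map φ → Y = Z := by
    intro Y Z hY hZ hYH hZH e
    refine Subgroup.eq_of_le_of_card_ge (fun y hy => ?_) (hY.trans hZ.symm).ge
    obtain ⟨z, hz, ez⟩ := e.le (Subgroup.mem_map_of_mem φ (show (⟨y, hYH hy⟩ : H) ∈ Y.subgroupOf H from hy))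
    have e' : φ (z⁻¹ * ⟨y, hYH hy⟩) = 1 := by rw [map_mul, map_inv, ez, inv_mul_cancel]
    rcases (hker _).mp e' with h | h
    · rw [show y = (z : G) from (inv_mul_eq_one.mp h).symm]
      exact hz
    · exfalso
      have h1 : y = (z : G) * a := inv_mul_eq_iff_eq_mul.mp (h : (z : G)⁻¹ * y = a)
      have hzp : (z : G) ^ p = 1 := orderOf_dvd_iff_pow_eq_one.mp (hZ ▸ Subgroup.orderOf_dvd_natCard Z hz)
      have hyp : y ^ p = 1 := orderOf_dvd_iff_pow_eq_one.mp (hY ▸ Subgroup.orderOf_dvd_natCard Y hy)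
      have hc : Commute (z : G) a := Subgroup.mem_centralizer_singleton_iff.mp z.2
      rw [h1, hc.mul_pow, hzp, one_mul] at hyp
      have h2 : orderOf a ∣ p := orderOf_dvd_of_pow_eq_one hyp
      rw [hD.1.1 a ha.1, Nat.prime_dvd_prime_iff_eq Nat.prime_two hp.out] at h2
      exact hp2 h2.symm
  have hXH : X ≤ H := le_centralizer_of_fx ha
  set Xb := (X.subgroupOf H).map φ with hXb
  have hXbc : Nat.card Xb = p := himg X hX hXH
  have hconj : ∀ g : H, Xb.map (MulAut.conj (φ g)).toMonoidHom =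
      ((X.map (MulAut.conj (g : G)).toMonoidHom).subgroupOf H).map φ := by
    intro g
    ext y
    constructor
    · rintro ⟨_, ⟨x, hx, rfl⟩, rfl⟩
      exact ⟨g * x * g⁻¹, ⟨x, hx, rfl⟩, by simp⟩
    · rintro ⟨z, ⟨x, hx, hzx⟩, rfl⟩
      refine ⟨φ ⟨x, hXH hx⟩, Subgroup.mem_map_of_mem φ (show (⟨x, hXH hx⟩ : H) ∈ X.subgroupOf H from hx), ?_⟩
      rw [show z = g * ⟨x, hXH hx⟩ * g⁻¹ from Subtype.ext hzx.symm]
      simp
  -- preimages of twice the size
  have hdouble : ∀ (S : Subgroup G) (T : Subgroup (ModCenter (Subgroup.closure (nb D d)))),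
      S ≤ H → a ∈ S → (S.subgroupOf H).map φ = T → Nat.card S = 2 * Nat.card T := by
    intro S T hSH haS e
    rw [← Nat.card_congr (Subgroup.subgroupOfEquivOfLe hSH).toEquiv, ← e]
    set f := φ.comp (S.subgroupOf H).subtype with hf
    rw [← Subgroup.card_mul_index f.ker, Subgroup.index_ker, MonoidHom.range_comp, Subgroup.range_subtype]
    congr 1
    rw [← Set.ncard_pair (ne_one hD ha.1).symm, ← Nat.card_coe_set_eq]
    refine Nat.card_congr (Equiv.ofBijective
      (fun u : f.ker => (⟨((u : S.subgroupOf H) : H), (hker _).mp u.2⟩ : ({1, a} : Set G))) ⟨?_, ?_⟩)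
    · intro u v e
      have e' := congrArg (fun z : ({1, a} : Set G) => (z : G)) e
      exact Subtype.ext (Subtype.ext (Subtype.ext e'))
    · rintro ⟨y, hy⟩
      have hyS : y ∈ S := by
        rcases hy with rfl | rfl
        · exact one_mem _
        · exact haS
      exact ⟨⟨⟨⟨y, hSH hyS⟩, hyS⟩, (hker _).mpr hy⟩, Subtype.ext rfl⟩
  have hXcomm : a ∈ Subgroup.centralizer (X : Set G) := ha.2
  refine ⟨?_, ?_, ?_, ?_⟩
  · rw [← hL.fixed Xb hXbc]
    refine Set.ncard_congr (fun x hx => φ ⟨x, Subgroup.mem_centralizer_singleton_iff.mpr hx.1.2.2.eq.symm⟩)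
      (fun x hx => ⟨hmem x hx.1, ?_⟩) (fun x y hx hy e => hinj x hx.1 y hy.1 e) (fun q hq => ?_)
    · refine Subgroup.mem_centralizer_iff.mpr ?_
      rintro _ ⟨y, hy, rfl⟩
      rw [← map_mul, ← map_mul]
      exact congrArg φ (Subtype.ext ((mem_fx.mp hx.2).2 _ hy).eq)
    · obtain ⟨x, hx, rfl⟩ := honto q hq.1
      refine ⟨x, ⟨hx, mem_fx.mpr ⟨hx.1, fun y hy => ?_⟩⟩, rfl⟩
      have hxH : x ∈ H := Subgroup.mem_centralizer_singleton_iff.mpr hx.2.2.eq.symm
      have h1 : φ (⟨y, hXH hy⟩ * ⟨x, hxH⟩ * ⟨y, hXH hy⟩⁻¹) = φ ⟨x, hxH⟩ := by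
        rw [map_mul, map_mul, map_inv,
          Subgroup.mem_centralizer_iff.mp hq.2 _ (Subgroup.mem_map_of_mem φ
            (show (⟨y, hXH hy⟩ : H) ∈ X.subgroupOf H from hy)), mul_inv_cancel_right]
      have hm : y * x * y⁻¹ ∈ nb D a := by
        have h := (nb_conj hD y a x).2 hx
        rwa [((mem_fx.mp ha).2 y hy).eq, mul_inv_cancel_right] at h
      exact mul_inv_eq_iff_eq_mul.mp (hinj _ hm x hx ((congrArg φ (Subtype.ext rfl)).trans h1))
  · rw [← hL.cent Xb hXbc]
    refine hdouble _ _ inf_le_right ⟨hXcomm, haH⟩ ?_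
    ext q
    constructor
    · rintro ⟨g, ⟨hg, -⟩, rfl⟩
      refine Subgroup.mem_centralizer_iff.mpr ?_
      rintro _ ⟨y, hy, rfl⟩
      rw [← map_mul, ← map_mul]
      exact congrArg φ (Subtype.ext (Subgroup.mem_centralizer_iff.mp hg _ hy))
    · intro hq
      obtain ⟨g, rfl⟩ := hsurj q
      refine ⟨g, ⟨Subgroup.mem_centralizer_iff.mpr fun y hy => ?_, g.2⟩, rfl⟩
      have h1 := Subgroup.mem_centralizer_iff.mp hq _ (Subgroup.mem_map_of_mem φ
        (show (⟨y, hXH hy⟩ : H) ∈ X.subgroupOf H from hy))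
      have e' : φ ((⟨y, hXH hy⟩ : H)⁻¹ * (g * ⟨y, hXH hy⟩ * g⁻¹)) = 1 := by
        rw [map_mul, map_mul, map_mul, map_inv, map_inv, ← h1]
        group
      rcases (hker _).mp e' with h | h
      · have h' : y⁻¹ * ((g : G) * y * (g : G)⁻¹) = 1 := h
        exact mul_inv_eq_iff_eq_mul.mp (inv_mul_eq_one.mp h').symm |>.symm
      · exfalso
        have h' : (g : G) * y * (g : G)⁻¹ = y * a := by
          exact inv_mul_eq_iff_eq_mul.mp (h : y⁻¹ * ((g : G) * y * (g : G)⁻¹) = a)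
        have hyp : y ^ p = 1 := orderOf_dvd_iff_pow_eq_one.mp (hX ▸ Subgroup.orderOf_dvd_natCard X hy)
        have h2 : (y * a) ^ p = 1 := by rw [← h', conj_pow, hyp]; group
        rw [((mem_fx.mp ha).2 y hy).mul_pow, hyp, one_mul] at h2
        have h3 : orderOf a ∣ p := orderOf_dvd_of_pow_eq_one h2
        rw [hD.1.1 a ha.1, Nat.prime_dvd_prime_iff_eq Nat.prime_two hp.out] at h3
        exact hp2 h3.symm
  · rw [← hL.norm Xb hXbc]
    refine hdouble _ _ inf_le_right ⟨Subgroup.centralizer_le_normalizer _ hXcomm, haH⟩ ?_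
    ext q
    constructor
    · rintro ⟨g, ⟨hg, -⟩, rfl⟩
      rw [Subgroup.mem_normalizer_iff_map_conj_eq]
      exact (hconj g).trans (by
        rw [show X.map (MulAut.conj (g : G)).toMonoidHom = X from
          Subgroup.mem_normalizer_iff_map_conj_eq.mp hg])
    · intro hq
      obtain ⟨g, rfl⟩ := hsurj q
      refine ⟨g, ⟨?_, g.2⟩, rfl⟩
      show (g : G) ∈ Subgroup.normalizer (X : Set G)
      rw [Subgroup.mem_normalizer_iff_map_conj_eq]
      have hXg : X.map (MulAut.conj (g : G)).toMonoidHom ≤ H := by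
        rintro _ ⟨x, hx, rfl⟩
        exact mul_mem (mul_mem g.2 (hXH hx)) (inv_mem g.2)
      refine heq _ X ?_ hX hXg hXH ((hconj g).symm.trans (Subgroup.mem_normalizer_iff_map_conj_eq.mp hq))
      rw [Subgroup.card_map_of_injective (MulAut.conj (g : G)).injective, hX]
  · intro Y hY hYH
    obtain ⟨q, hq⟩ := hL.conj Xb _ hXbc (himg Y hY hYH)
    obtain ⟨g, rfl⟩ := hsurj q
    refine ⟨g, mul_inv_eq_iff_eq_mul.mpr (Subgroup.mem_centralizer_singleton_iff.mp g.2), ?_⟩
    refine heq _ Y ?_ hY ?_ hYH ((hconj g).symm.trans hq)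
    · rw [Subgroup.card_map_of_injective (MulAut.conj (g : G)).injective, hX]
    · rintro _ ⟨x, hx, rfl⟩
      exact mul_mem (mul_mem g.2 (hXH hx)) (inv_mem g.2)

end Cfsg.Agent.H25.M23
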