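import Cfsg.Agent.TT95.Orders23
import Mathlib.GroupTheory.PGroup

/-!
Type M(23): the transpositions fixed by a subgroup of prime order, and the passage to the local group.
-/

set_option autoImplicit false
set_option linter.unusedSectionVars false

namespace Cfsg.Agent.H25.M23

open Cfsg.Agent.TT95

variable {G : Type*} [Group G]

/-- The members of `D` centralised by `X`. -/
def fx (D : Set G) (X : Subgroup G) : Set G := {x | x ∈ D ∧ x ∈ Subgroup.centralizer (X : Set G)}

theorem mem_fx {D : Set G} {X : Subgroup G} {x : G} :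
    x ∈ fx D X ↔ x ∈ D ∧ ∀ y ∈ X, Commute y x :=
  ⟨fun h => ⟨h.1, fun y hy => Subgroup.mem_centralizer_iff.mp h.2 y hy⟩,
    fun h => ⟨h.1, Subgroup.mem_centralizer_iff.mpr fun y hy => (h.2 y hy).eq⟩⟩

theorem fx_eq (D : Set G) (X : Subgroup G) :
    fx D X = D ∩ (Subgroup.centralizer (X : Set G) : Set G) := rfl

theorem le_centralizer_of_fx {D : Set G} {X : Subgroup G} {a : G} (ha : a ∈ fx D X) :
    X ≤ Subgroup.centralizer ({a} : Set G) := fun y hy =>
  Subgroup.mem_centralizer_singleton_iff.mpr ((mem_fx.mp ha).2 y hy).eq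

variable {p : ℕ} [hp : Fact p.Prime]

/-- A set permuted by a group of order `p` has as many members as fixed members, modulo `p`. -/
theorem ncard_modEq [Finite G] {X : Subgroup G} (hX : Nat.card X = p) {S : Set G}
    (hS : ∀ g ∈ X, ∀ x ∈ S, g * x * g⁻¹ ∈ S) :
    S.ncard ≡ (S ∩ (Subgroup.centralizer (X : Set G) : Set G)).ncard [MOD p] := by
  letI : MulAction X S :=
    { smul := fun g x => ⟨g * x * (g : G)⁻¹, hS g g.2 x x.2⟩
      one_smul := fun x => Subtype.ext (by show (1 : G) * x * (1 : G)⁻¹ = x; group)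
      mul_smul := fun g h x => Subtype.ext (by
        show (g * h : G) * x * (g * h : G)⁻¹ = g * (h * x * (h : G)⁻¹) * (g : G)⁻¹; group) }
  have hP : IsPGroup p X := IsPGroup.of_card (n := 1) (by rw [pow_one]; exact hX)
  have h := hP.card_modEq_card_fixedPoints S
  rw [Nat.card_coe_set_eq] at h
  refine h.trans (congrArg (· % p) ?_)
  rw [Nat.card_coe_set_eq, ← Set.ncard_image_of_injective _ Subtype.val_injective]
  congr 1
  ext x
  constructor
  · rintro ⟨y, hy, rfl⟩
    exact ⟨y.2, Subgroup.mem_centralizer_iff.mpr fun g hg =>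
      mul_inv_eq_iff_eq_mul.mp (congrArg Subtype.val (hy ⟨g, hg⟩))⟩
  · rintro ⟨hx, hxc⟩
    exact ⟨⟨x, hx⟩, fun g => Subtype.ext (mul_inv_eq_iff_eq_mul.mpr
      (Subgroup.mem_centralizer_iff.mp hxc g g.2)), rfl⟩

variable [Finite G] {D : Set G} (hD : TTSet D) {X : Subgroup G} (hX : Nat.card X = p)

include hD hX

theorem fx_modEq : D.ncard ≡ (fx D X).ncard [MOD p] :=
  ncard_modEq hX fun g _ _ hx => conj_mem hD g hx

theorem nb_fx_modEq {a : G} (ha : a ∈ fx D X) :
    (nb D a).ncard ≡ (nb D a ∩ fx D X).ncard [MOD p] := by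
  refine (ncard_modEq hX fun g hg x hx => ?_).trans (congrArg (fun T : Set G => T.ncard % p) ?_)
  · have h := (nb_conj hD g a x).2 hx
    rwa [((mem_fx.mp ha).2 g hg).eq, mul_inv_cancel_right] at h
  · ext x; exact ⟨fun h => ⟨h.1, h.1.1, h.2⟩, fun h => ⟨h.1, h.2.2⟩⟩

theorem common_fx_modEq {a b : G} (ha : a ∈ fx D X) (hb : b ∈ fx D X) :
    (common D a b).ncard ≡ (common D a b ∩ fx D X).ncard [MOD p] := by
  refine (ncard_modEq hX fun g hg x hx => ?_).trans (congrArg (fun T : Set G => T.ncard % p) ?_)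
  · have h1 := (nb_conj hD g a x).2 hx.1
    have h2 := (nb_conj hD g b x).2 hx.2
    rw [((mem_fx.mp ha).2 g hg).eq, mul_inv_cancel_right] at h1
    rw [((mem_fx.mp hb).2 g hg).eq, mul_inv_cancel_right] at h2
    exact ⟨h1, h2⟩
  · ext x; exact ⟨fun h => ⟨h.1, h.1.1.1, h.2⟩, fun h => ⟨h.1, h.2.2⟩⟩

theorem fx_conj_mem {g x : G} (hg : g ∈ Subgroup.normalizer (X : Set G)) (hx : x ∈ fx D X) :
    g * x * g⁻¹ ∈ fx D X := by
  refine mem_fx.mpr ⟨conj_mem hD g hx.1, fun y hy => ?_⟩
  have h' : g⁻¹ * y * g ∈ X := by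
    simpa using (Subgroup.mem_normalizer_iff.mp (inv_mem hg) y).mp hy
  have := (Commute.conj_iff g).2 ((mem_fx.mp hx).2 _ h')
  rwa [show g * (g⁻¹ * y * g) * g⁻¹ = y by group] at this

omit hp in
theorem fx_closed : Closed D (fx D X) := by
  refine ⟨fun x hx => hx.1, fun x hx y hy => ⟨conj_mem' hD hy.1 hx.1, ?_⟩⟩
  exact mul_mem (mul_mem hx.2 hy.2) hx.2

/-- Third members: `x` commuting with `a` and `b` commutes with `a * b * a`. -/
theorem common_third {a b x : G} (h1 : Commute x a) (h2 : Commute x b) : Commute x (a * b * a) :=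
  (h1.mul_right h2).mul_right h1

end Cfsg.Agent.H25.M23
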